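import Cfsg.Agent.Lib.Lie.E6.Root
import Cfsg.Agent.Lib.Lie.Chev.TblE6

/-!
# The finite checks for the adjoint action
-/

set_option autoImplicit false

namespace CfsgLib.Lie.E6

open Cfsg.Lie CfsgLib.Lie.Chev

/-- the operator of a basis vector of the Lie algebra, by its number -/
noncomputable def phiN (p : ℕ) : List (ℕ × ℤ) :=
  cond (Nat.blt p 6) ((List.range 27).map fun w => (28 * w, hwt p w)) (opU (p - 6))

/-- the image of a basis vector under a coefficient of a root element -/
noncomputable def actL (r k p : ℕ) : List (ℕ × ℤ) := bindv (actF fastE6 r k p) phiN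

/-- the relation between the root element on 27 and on 78 coordinates -/
noncomputable def chkAd (r p : ℕ) : Bool :=
  let e := opU r
  let f := phiN p
  let a1 := actL r 1 p
  let a2 := actL r 2 p
  allList (actF fastE6 r 1 p) (fun x => Nat.blt x.1 78) &&
    allList (actF fastE6 r 2 p) (fun x => Nat.blt x.1 78) &&
    (actF fastE6 r 3 p).isEmpty &&
    keysOK e && keysOK f && keysOK a1 && keysOK a2 &&
    chkZero (spMul e f ++ scale (-1) (spMul f e ++ a1)) &&
    chkZero (spMul a1 e ++ a2) && chkZero (spMul a2 e)

/-- twelve roots at a time -/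
noncomputable def chkAdBlock (k : ℕ) : Bool := allLt 12 fun r => allLt 78 (chkAd (12 * k + r))

theorem chkAd_0 : chkAdBlock 0 = true := by decide +kernel

theorem chkAd_1 : chkAdBlock 1 = true := by decide +kernel

theorem chkAd_2 : chkAdBlock 2 = true := by decide +kernel

theorem chkAd_3 : chkAdBlock 3 = true := by decide +kernel

theorem chkAd_4 : chkAdBlock 4 = true := by decide +kernel

theorem chkAd_5 : chkAdBlock 5 = true := by decide +kernel

theorem chkAd_all {r : ℕ} (hr : r < 72) {p : ℕ} (hp : p < 78) : chkAd r p = true := by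
  have hb : chkAdBlock (r / 12) = true := by
    have : r / 12 < 6 := by omega
    interval_cases h : r / 12
    exacts [chkAd_0, chkAd_1, chkAd_2, chkAd_3, chkAd_4, chkAd_5]
  have := allLt_spec (allLt_spec hb (r % 12) (Nat.mod_lt _ (by norm_num))) p hp
  rwa [show 12 * (r / 12) + r % 12 = r by omega] at this

/-- the probe of a basis vector -/
noncomputable def probe (j : ℕ) : List (ℕ × ℤ) :=
  cond (Nat.blt j 6)
    ((List.range 6).map fun k => (28 * six.getD k 0, (sixInv.getD j []).getD k 0))
    ((opU (j - 6)).take 1)

/-- the value of a probe on a sparse matrix -/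
noncomputable def probeVal (pr l : List (ℕ × ℤ)) : ℤ :=
  List.rec 0 (fun e _ ih => Int.add (Int.mul e.2 (coefR l e.1)) ih) pr

theorem probe_all : allLt 78 (fun j => keysOK (probe j) && keysOK (phiN j) && allLt 78 fun p =>
    intBeq (probeVal (probe j) (phiN p)) (cond (Nat.beq j p) 1 0)) = true := by decide +kernel

end CfsgLib.Lie.E6
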