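import Cfsg.Agent.Lib.Lie.E6.AdCheck
import Cfsg.Agent.Lib.Lie.Chev.GoodE6
import Cfsg.Agent.Lib.Lie.Chev.Api

/-!
# The adjoint action of the group of root elements on 27 coordinates

Conjugation on the 78 dimensional span of the root operators and the coroots maps the group onto
the Chevalley group of type E6, with central kernel.
-/

set_option autoImplicit false

namespace CfsgLib.Lie.E6

open Cfsg.Lie CfsgLib.Lie.Chev
open scoped MatrixGroups

/-- the number of a basis vector -/
noncomputable abbrev bp (b : chevE6.Idx) : ℕ := pos chevE6 b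

theorem bp_lt (b : chevE6.Idx) : bp b < 78 := pos_lt chevE6 b

theorem bp_surj {n : ℕ} (h : n < 78) : ∃ b : chevE6.Idx, bp b = n := by
  by_cases h6 : n < chevE6.rank
  · exact ⟨Sum.inl ⟨n, h6⟩, rfl⟩
  · refine ⟨Sum.inr ⟨n - chevE6.rank, ?_⟩, ?_⟩
    · show n - 6 < 72
      omega
    · show chevE6.rank + (n - chevE6.rank) = n
      omega

section

variable (F : Type*) [Field F]

/-- the operator of a basis vector of the Lie algebra -/
noncomputable def Phi (b : chevE6.Idx) : Matrix I27 I27 F := toM F (phiN (bp b))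

variable {F}

theorem toM_bindv (v : List (ℕ × ℤ)) :
    toM F (bindv v phiN) = evalSp (fun n => toM F (phiN n)) v := by
  induction v with
  | nil => simp [bindv]
  | cons e v ih =>
    rw [show bindv (e :: v) phiN = scale e.2 (phiN e.1) ++ bindv v phiN from rfl, toM_append,
      toM_scale, ih, evalSp_cons]

theorem sum_coef_Phi {v : List (ℕ × ℤ)} (hv : ∀ e ∈ v, e.1 < 78) :
    ∑ a, (coef v (bp a) : F) • Phi F a = toM F (bindv v phiN) := by
  classical
  rw [toM_bindv, evalSp_eq_finsum _ v (Finset.univ.image bp)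
    (fun e he => Finset.mem_image.2 ⟨(bp_surj (hv e he)).choose, Finset.mem_univ _,
      (bp_surj (hv e he)).choose_spec⟩),
    Finset.sum_image (fun a _ b _ h => pos_injective chevE6 h)]
  exact Finset.sum_congr rfl fun a _ => Int.cast_smul_eq_zsmul F _ _

theorem Phi_indep {c : chevE6.Idx → F} (h : ∑ a, c a • Phi F a = 0) : c = 0 := by
  funext j
  have hj := allLt_spec probe_all (bp j) (bp_lt j)
  simp only [Bool.and_eq_true] at hj
  obtain ⟨⟨hk, -⟩, hd⟩ := hj
  -- the probe as a linear functional on matrices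
  let L : Matrix I27 I27 F → F := fun M =>
    ((probe (bp j)).map fun e => (e.2 : F) * M (wi (e.1 / 27)) (wi (e.1 % 27))).sum
  have hLadd : ∀ (c : chevE6.Idx → F) (s : Finset chevE6.Idx),
      L (∑ a ∈ s, c a • Phi F a) = ∑ a ∈ s, c a * L (Phi F a) := by
    intro c s
    show ((probe (bp j)).map _).sum = ∑ a ∈ s, c a * ((probe (bp j)).map _).sum
    generalize probe (bp j) = pr
    induction pr with
    | nil => simp
    | cons e l ih =>
      simp only [List.map_cons, List.sum_cons, mul_add, Finset.sum_add_distrib]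
      rw [ih, Matrix.sum_apply, Finset.mul_sum]
      congr 1
      exact Finset.sum_congr rfl fun a _ => by rw [Matrix.smul_apply, smul_eq_mul]; ring
  have hval : ∀ a, L (Phi F a) = if a = j then 1 else 0 := by
    intro a
    have ha := intBeq_spec (allLt_spec hd (bp a) (bp_lt a))
    have hkp := keysOK_spec hk
    have hL : L (Phi F a) = (probeVal (probe (bp j)) (phiN (bp a)) : F) := by
      have hp : keysOK (phiN (bp a)) = true := by
        have := allLt_spec probe_all (bp a) (bp_lt a)
        simp only [Bool.and_eq_true] at this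
        exact this.1.2
      simp only [L, Phi]
      clear ha hd hk L hLadd
      generalize probe (bp j) = pr at hkp ⊢
      induction pr with
      | nil => simp [probeVal]
      | cons e l ih =>
        have he := hkp e List.mem_cons_self
        rw [List.map_cons, List.sum_cons, ih fun x hx => hkp x (List.mem_cons_of_mem _ hx),
          toM_apply (keysOK_spec hp) (by omega) (by omega),
          show 27 * (e.1 / 27) + e.1 % 27 = e.1 by omega,
          show probeVal (e :: l) (phiN (bp a)) =
            Int.add (Int.mul e.2 (coefR (phiN (bp a)) e.1)) (probeVal l (phiN (bp a))) from rfl,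
          Int.add_def, Int.mul_def, coefR_eq]
        push_cast
        ring
    rw [hL, ha]
    by_cases haj : a = j
    · subst haj; simp [Nat.beq_refl]
    · rw [if_neg haj, Bool.eq_false_iff.2 fun hc =>
        haj (pos_injective chevE6 (Nat.eq_of_beq_eq_true hc)).symm]
      simp
  have := congrArg L h
  rw [hLadd] at this
  simp only [hval, mul_ite, mul_one, mul_zero, Finset.sum_ite_eq', Finset.mem_univ, if_true] at this
  rw [this, Pi.zero_apply]
  simp [L]

/-- conjugation by a matrix on 27 coordinates is given by a matrix on 78 -/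
def Rel (g : Matrix I27 I27 F) (M : Matrix chevE6.Idx chevE6.Idx F) : Prop :=
  ∀ b, g * Phi F b = (∑ a, M a b • Phi F a) * g

theorem rel_mul {g h : Matrix I27 I27 F} {M N : Matrix chevE6.Idx chevE6.Idx F}
    (hg : Rel g M) (hh : Rel h N) : Rel (g * h) (M * N) := by
  intro b
  rw [mul_assoc, hh b, ← mul_assoc, Finset.mul_sum]
  simp only [Matrix.mul_smul, hg _, ← Matrix.smul_mul, Finset.smul_sum, smul_smul]
  rw [← Finset.sum_mul, mul_assoc, Finset.sum_comm]
  simp only [Matrix.mul_apply, Finset.sum_smul]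
  congr 1
  exact Finset.sum_congr rfl fun a _ => Finset.sum_congr rfl fun k _ => by rw [mul_comm]

theorem rel_inv {g : GL I27 F} {M : GL chevE6.Idx F}
    (h : Rel (g : Matrix I27 I27 F) (M : Matrix chevE6.Idx chevE6.Idx F)) :
    Rel ((g⁻¹ : GL I27 F) : Matrix I27 I27 F) ((M⁻¹ : GL chevE6.Idx F) : Matrix chevE6.Idx chevE6.Idx F) := by
  intro b
  have e : (g : Matrix I27 I27 F) * ∑ a, ((M⁻¹ : GL chevE6.Idx F) : Matrix chevE6.Idx chevE6.Idx F) a b • Phi F a =
      Phi F b * (g : Matrix I27 I27 F) := by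
    rw [Finset.mul_sum]
    simp only [Matrix.mul_smul, h _, ← Matrix.smul_mul, Finset.smul_sum, smul_smul]
    rw [← Finset.sum_mul, Finset.sum_comm]
    simp only [← Finset.sum_smul]
    congr 1
    rw [Finset.sum_eq_single b]
    · have h1 := congrFun (congrFun M.mul_inv b) b
      simp only [Matrix.mul_apply, Matrix.one_apply_eq] at h1
      rw [show (∑ i, (M⁻¹ : GL chevE6.Idx F).val i b * M.val b i) = 1 from by
        rw [← h1]; exact Finset.sum_congr rfl fun i _ => mul_comm _ _, one_smul]
    · intro c _ hc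
      have h1 := congrFun (congrFun M.mul_inv c) b
      simp only [Matrix.mul_apply, Matrix.one_apply_ne hc] at h1
      rw [show (∑ i, (M⁻¹ : GL chevE6.Idx F).val i b * M.val c i) = 0 from by
        rw [← h1]; exact Finset.sum_congr rfl fun i _ => mul_comm _ _, zero_smul]
    · simp
  rw [← Units.inv_mul_cancel_left g (∑ a, ((M⁻¹ : GL chevE6.Idx F) : Matrix chevE6.Idx chevE6.Idx F) a b • Phi F a),
    e, mul_assoc, mul_assoc, Units.mul_inv, mul_one]

theorem rel_unique {g : GL I27 F} {M N : Matrix chevE6.Idx chevE6.Idx F}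
    (h : Rel (g : Matrix I27 I27 F) M) (h' : Rel (g : Matrix I27 I27 F) N) : M = N := by
  ext a b
  have e := (h b).symm.trans (h' b)
  have e' := Units.mul_left_inj g |>.1 e
  have := congrFun (Phi_indep (c := fun a => M a b - N a b)
    (by simp only [sub_smul, Finset.sum_sub_distrib, e', sub_self])) a
  exact sub_eq_zero.1 this

theorem rel_xe (r : Fin chevE6.nroots) (t : F) :
    Rel (xe (⟨r.val, r.isLt⟩ : Fin 72) t : Matrix I27 I27 F) (xg F r t) := by
  intro b
  have h := chkAd_all (r := r.val) r.isLt (bp_lt b)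
  have hF : ∀ k, 1 ≤ k → k ≤ 3 → actF fastE6 r.val k (bp b) = act chevE6 r.val k (bp b) :=
    fun k h1 h2 => actF_eq (rowsOK chkRows_E6) r.isLt h1 h2 (bp_lt b)
  simp only [chkAd, actL, hF 1 le_rfl (by norm_num), hF 2 (by norm_num) (by norm_num),
    hF 3 (by norm_num) le_rfl, Bool.and_eq_true] at h
  obtain ⟨⟨⟨⟨⟨⟨⟨⟨⟨v1, v2⟩, v3⟩, k0⟩, k1⟩, k2⟩, k3⟩, c1⟩, c2⟩, c3⟩ := h
  have w1 : ∀ e ∈ act chevE6 r.val 1 (bp b), e.1 < 78 := fun e he => by
    simpa [Nat.blt] using allList_spec v1 e he
  have w2 : ∀ e ∈ act chevE6 r.val 2 (bp b), e.1 < 78 := fun e he => by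
    simpa [Nat.blt] using allList_spec v2 e he
  have w3 : act chevE6 r.val 3 (bp b) = [] := List.isEmpty_iff.1 v3
  set A1 := bindv (act chevE6 r.val 1 (bp b)) phiN with hA1
  set A2 := bindv (act chevE6 r.val 2 (bp b)) phiN with hA2
  have hsum : ∑ a, xg F r t a b • Phi F a =
      Phi F b + t • toM F A1 + t ^ 2 • toM F A2 := by
    simp only [xg_apply, add_smul, Finset.sum_add_distrib, mul_smul, ← Finset.smul_sum]
    rw [sum_coef_Phi w1, sum_coef_Phi w2, w3]
    rw [← hA1, ← hA2]; simp [ite_smul]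
  have d1 : eM F r.val * Phi F b = Phi F b * eM F r.val + toM F A1 := by
    rw [eM, Phi, ← toM_spMul k0 k1, ← toM_spMul k1 k0, ← toM_append]
    exact toM_eq c1
  have d2 : toM F A1 * eM F r.val + toM F A2 = 0 := by
    rw [eM, ← toM_spMul k2 k0, ← toM_append]
    exact evalSp_eq_zero _ c2
  have d3 : toM F A2 * eM F r.val = 0 := by
    rw [eM, ← toM_spMul k3 k0]
    exact evalSp_eq_zero _ c3
  rw [hsum, coe_xe, add_mul, one_mul, mul_add, mul_one]
  simp only [Matrix.smul_mul, Matrix.mul_smul, smul_add, add_mul, smul_smul, d1, d3, smul_zero,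
    add_zero]
  have : t ^ 2 • (toM F A1 * eM F r.val) + t ^ 2 • toM F A2 = 0 := by
    rw [← smul_add, d2, smul_zero]
  linear_combination (norm := (simp only [sq]; abel)) -this

/-- the group of pairs -/
def relGroup (F : Type*) [Field F] : Subgroup (GL I27 F × GL chevE6.Idx F) where
  carrier := {p | Rel (p.1 : Matrix I27 I27 F) (p.2 : Matrix chevE6.Idx chevE6.Idx F)}
  mul_mem' {p q} hp hq := rel_mul hp hq
  one_mem' := fun b => by
    simp [Matrix.one_apply, ite_smul]
  inv_mem' {p} hp := rel_inv hp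

end

/-- the group generated by the pairs of root elements -/
noncomputable def pairGroup (F : Type*) [Field F] : Subgroup (GL I27 F × GL chevE6.Idx F) :=
  Subgroup.closure {p | ∃ (r : Fin chevE6.nroots) (t : F),
    p = (xe (⟨r.val, r.isLt⟩ : Fin 72) t, goodE6.xu r t)}

variable {F : Type*} [Field F]

theorem pairGroup_le : pairGroup F ≤ relGroup F :=
  (Subgroup.closure_le _).2 (by
    rintro _ ⟨r, t, rfl⟩
    exact rel_xe r t)

theorem fst_pairGroup : (pairGroup F).map (MonoidHom.fst _ _) = elemE6 F := by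
  rw [pairGroup, MonoidHom.map_closure, elemE6]
  congr 1
  ext g
  constructor
  · rintro ⟨_, ⟨r, t, rfl⟩, rfl⟩
    exact ⟨_, t, rfl⟩
  · rintro ⟨r, t, rfl⟩
    exact ⟨_, ⟨⟨r.val, r.isLt⟩, t, rfl⟩, rfl⟩

theorem snd_pairGroup : (pairGroup F).map (MonoidHom.snd _ _) = chevE6.group F := by
  rw [pairGroup, MonoidHom.map_closure, goodE6.group_eq]
  congr 1
  ext g
  constructor
  · rintro ⟨_, ⟨r, t, rfl⟩, rfl⟩
    exact ⟨r, t, rfl⟩
  · rintro ⟨r, t, rfl⟩
    exact ⟨_, ⟨r, t, rfl⟩, rfl⟩

/-- the projection of the pairs to the group on 27 coordinates -/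
noncomputable def pairFst (F : Type*) [Field F] : ↥(pairGroup F) →* ↥(elemE6 F) :=
  ((MonoidHom.fst _ _).comp (pairGroup F).subtype).codRestrict _ fun p =>
    (fst_pairGroup (F := F)) ▸ Subgroup.mem_map_of_mem (MonoidHom.fst _ _) p.2

theorem pairFst_bijective : Function.Bijective (pairFst F) := by
  refine ⟨(injective_iff_map_eq_one _).2 fun p hp => ?_, fun g => ?_⟩
  · have h1 : p.1.1 = 1 := congrArg Subtype.val hp
    have h2 := rel_unique (pairGroup_le p.2) (N := 1) (by rw [h1]; exact (relGroup F).one_mem)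
    exact Subtype.ext (Prod.ext h1 (Units.ext h2))
  · have hg : (g : GL I27 F) ∈ (pairGroup F).map (MonoidHom.fst _ _) := by rw [fst_pairGroup]; exact g.2
    obtain ⟨p, hp, e⟩ := Subgroup.mem_map.1 hg
    exact ⟨⟨p, hp⟩, Subtype.ext e⟩

/-- the adjoint map -/
noncomputable def adHom (F : Type*) [Field F] : ↥(elemE6 F) →* ↥(chevE6.group F) :=
  (((MonoidHom.snd _ _).comp (pairGroup F).subtype).codRestrict _ fun p =>
    (snd_pairGroup (F := F)) ▸ Subgroup.mem_map_of_mem (MonoidHom.snd _ _) p.2).comp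
      (MulEquiv.ofBijective (pairFst F) pairFst_bijective).symm.toMonoidHom

theorem adHom_surjective : Function.Surjective (adHom F) := by
  intro g
  have hg : (g : GL chevE6.Idx F) ∈ (pairGroup F).map (MonoidHom.snd _ _) := by rw [snd_pairGroup]; exact g.2
  obtain ⟨p, hp, e⟩ := Subgroup.mem_map.1 hg
  refine ⟨pairFst F ⟨p, hp⟩, Subtype.ext ?_⟩
  rw [adHom, MonoidHom.comp_apply, MulEquiv.coe_toMonoidHom,
    show (MulEquiv.ofBijective (pairFst F) pairFst_bijective).symm (pairFst F ⟨p, hp⟩) = ⟨p, hp⟩ from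
      (MulEquiv.ofBijective (pairFst F) pairFst_bijective).symm_apply_apply _]
  exact e

theorem Phi_root (r : Fin chevE6.nroots) : Phi F (Sum.inr r) = eM F r.val := by
  have : bp (Sum.inr r) = 6 + r.val := rfl
  rw [Phi, this, phiN, show Nat.blt (6 + r.val) 6 = false from Bool.eq_false_iff.2 fun hc => by
    simp only [Nat.blt, Nat.ble_eq] at hc; omega, cond_false,
    Nat.add_sub_cancel_left]
  rfl

theorem adHom_ker_le : (adHom F).ker ≤ Subgroup.center ↥(elemE6 F) := by
  intro g hg
  obtain ⟨p, rfl⟩ := pairFst_bijective.2 g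
  have h2 : p.1.2 = 1 := by
    have := congrArg Subtype.val (MonoidHom.mem_ker.1 hg)
    rw [adHom, MonoidHom.comp_apply, MulEquiv.coe_toMonoidHom,
      show (MulEquiv.ofBijective (pairFst F) pairFst_bijective).symm (pairFst F p) = p from
        (MulEquiv.ofBijective (pairFst F) pairFst_bijective).symm_apply_apply _] at this
    exact this
  have hc : ∀ b, (p.1.1 : Matrix I27 I27 F) * Phi F b = Phi F b * (p.1.1 : Matrix I27 I27 F) := by
    intro b
    rw [pairGroup_le p.2 b, h2]
    simp [Matrix.one_apply, ite_smul]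
  rw [Subgroup.mem_center_iff]
  intro k
  apply Subtype.ext
  have hle : elemE6 F ≤ Subgroup.centralizer {p.1.1} := (Subgroup.closure_le _).2 (by
    rintro _ ⟨r, t, rfl⟩
    rw [SetLike.mem_coe, Subgroup.mem_centralizer_singleton_iff]
    apply Units.ext
    rw [Units.val_mul, Units.val_mul, coe_xe]
    have := hc (Sum.inr (⟨r.val, r.isLt⟩ : Fin chevE6.nroots))
    rw [Phi_root] at this
    rw [add_mul, mul_add, one_mul, mul_one, Matrix.smul_mul, Matrix.mul_smul, this])
  exact (Subgroup.mem_centralizer_singleton_iff.1 (hle k.2))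

end CfsgLib.Lie.E6
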