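import Cfsg.Agent.Lib.Lie.Chev.Cert

/-!
Tables for the 27 dimensional module of type E6: the monomials of the cubic form, the root
operators, the weights and the steps of the frame argument.

Generated from the structure constants of the datum; everything is verified by computation.
-/

set_option autoImplicit false
set_option maxRecDepth 100000

namespace CfsgLib.Lie.E6

open CfsgLib.Lie.Chev

/-- the monomials with their coefficients -/
def mons : List (ℤ × ℕ × ℕ × ℕ) :=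
  [(1, 0, 4, 8),
    (-1, 0, 5, 7),
    (-1, 0, 9, 18),
    (-1, 0, 10, 21),
    (-1, 0, 11, 24),
    (-1, 1, 3, 8),
    (1, 1, 5, 6),
    (-1, 1, 12, 18),
    (-1, 1, 13, 21),
    (-1, 1, 14, 24),
    (1, 2, 3, 7),
    (-1, 2, 4, 6),
    (-1, 2, 15, 18),
    (-1, 2, 16, 21),
    (-1, 2, 17, 24),
    (-1, 3, 9, 19),
    (-1, 3, 10, 22),
    (-1, 3, 11, 25),
    (-1, 4, 12, 19),
    (-1, 4, 13, 22),
    (-1, 4, 14, 25),
    (-1, 5, 15, 19),
    (-1, 5, 16, 22),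
    (-1, 5, 17, 25),
    (-1, 6, 9, 20),
    (-1, 6, 10, 23),
    (-1, 6, 11, 26),
    (-1, 7, 12, 20),
    (-1, 7, 13, 23),
    (-1, 7, 14, 26),
    (-1, 8, 15, 20),
    (-1, 8, 16, 23),
    (-1, 8, 17, 26),
    (1, 9, 13, 17),
    (-1, 9, 14, 16),
    (-1, 10, 12, 17),
    (1, 10, 14, 15),
    (1, 11, 12, 16),
    (-1, 11, 13, 15),
    (1, 18, 22, 26),
    (-1, 18, 23, 25),
    (-1, 19, 21, 26),
    (1, 19, 23, 24),
    (1, 20, 21, 25),
    (-1, 20, 22, 24)]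

/-- the root operators: (row, column, sign) -/
def opsTree : Chev.Tree (List (ℕ × ℕ × ℤ)) :=
  
    (.node 36 
    (.node 18 
    (.node 9 
    (.node 4 
    (.node 2 
    (.node 1 (.leaf [(11, 9, -1), (14, 12, -1), (17, 15, -1), (18, 24, 1), (19, 25, 1), (20, 26, 1)]) (.leaf [(10, 9, 1), (13, 12, 1), (16, 15, 1), (18, 21, -1), (19, 22, -1), (20, 23, -1)])) 
    (.node 3 (.leaf [(1, 15, -1), (2, 12, 1), (10, 24, -1), (11, 21, 1), (19, 6, -1), (20, 3, 1)]) (.leaf [(4, 15, 1), (5, 12, -1), (10, 25, 1), (11, 22, -1), (18, 6, -1), (20, 0, 1)]))) 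
    (.node 6 
    (.node 5 (.leaf [(7, 15, -1), (8, 12, 1), (10, 26, -1), (11, 23, 1), (18, 3, -1), (19, 0, 1)]) (.leaf [(0, 15, 1), (2, 9, -1), (13, 24, -1), (14, 21, 1), (19, 7, -1), (20, 4, 1)])) 
    (.node 7 (.leaf [(3, 15, -1), (5, 9, 1), (13, 25, 1), (14, 22, -1), (18, 7, -1), (20, 1, 1)]) 
    (.node 8 (.leaf [(6, 15, 1), (8, 9, -1), (13, 26, -1), (14, 23, 1), (18, 4, -1), (19, 1, 1)]) (.leaf [(2, 25, 1), (5, 24, -1), (11, 7, 1), (14, 6, -1), (20, 16, 1), (23, 15, -1)]))))) 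
    (.node 13 
    (.node 11 
    (.node 10 (.leaf [(2, 26, -1), (8, 24, 1), (11, 4, 1), (14, 3, -1), (19, 16, 1), (22, 15, -1)]) (.leaf [(5, 26, 1), (8, 25, -1), (11, 1, 1), (14, 0, -1), (18, 16, 1), (21, 15, -1)])) 
    (.node 12 (.leaf [(2, 22, -1), (5, 21, 1), (10, 7, -1), (13, 6, 1), (20, 17, 1), (26, 15, -1)]) (.leaf [(2, 23, 1), (8, 21, -1), (10, 4, -1), (13, 3, 1), (19, 17, 1), (25, 15, -1)]))) 
    (.node 15 
    (.node 14 (.leaf [(5, 23, -1), (8, 22, 1), (10, 1, -1), (13, 0, 1), (18, 17, 1), (24, 15, -1)]) (.leaf [(2, 0, 1), (5, 3, 1), (8, 6, 1), (9, 15, -1), (10, 16, -1), (11, 17, -1)])) 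
    (.node 16 (.leaf [(2, 1, 1), (5, 4, 1), (8, 7, 1), (12, 15, -1), (13, 16, -1), (14, 17, -1)]) 
    (.node 17 (.leaf [(0, 12, 1), (1, 9, -1), (16, 24, 1), (17, 21, -1), (19, 8, 1), (20, 5, -1)]) (.leaf [(3, 12, -1), (4, 9, 1), (16, 25, -1), (17, 22, 1), (18, 8, 1), (20, 2, -1)])))))) 
    (.node 27 
    (.node 22 
    (.node 20 
    (.node 19 (.leaf [(6, 12, 1), (7, 9, -1), (16, 26, 1), (17, 23, -1), (18, 5, 1), (19, 2, -1)]) (.leaf [(1, 25, 1), (4, 24, -1), (11, 8, -1), (17, 6, 1), (20, 13, 1), (23, 12, -1)])) 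
    (.node 21 (.leaf [(1, 26, -1), (7, 24, 1), (11, 5, -1), (17, 3, 1), (19, 13, 1), (22, 12, -1)]) (.leaf [(4, 26, 1), (7, 25, -1), (11, 2, -1), (17, 0, 1), (18, 13, 1), (21, 12, -1)]))) 
    (.node 24 
    (.node 23 (.leaf [(0, 25, -1), (3, 24, 1), (14, 8, -1), (17, 7, 1), (20, 10, -1), (23, 9, 1)]) (.leaf [(0, 26, 1), (6, 24, -1), (14, 5, -1), (17, 4, 1), (19, 10, -1), (22, 9, 1)])) 
    (.node 25 (.leaf [(3, 26, -1), (6, 25, 1), (14, 2, -1), (17, 1, 1), (18, 10, -1), (21, 9, 1)]) 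
    (.node 26 (.leaf [(11, 10, 1), (14, 13, 1), (17, 16, 1), (21, 24, -1), (22, 25, -1), (23, 26, -1)]) (.leaf [(1, 22, -1), (4, 21, 1), (10, 8, 1), (16, 6, -1), (20, 14, 1), (26, 12, -1)]))))) 
    (.node 31 
    (.node 29 
    (.node 28 (.leaf [(1, 23, 1), (7, 21, -1), (10, 5, 1), (16, 3, -1), (19, 14, 1), (25, 12, -1)]) (.leaf [(4, 23, -1), (7, 22, 1), (10, 2, 1), (16, 0, -1), (18, 14, 1), (24, 12, -1)])) 
    (.node 30 (.leaf [(1, 0, 1), (4, 3, 1), (7, 6, 1), (9, 12, -1), (10, 13, -1), (11, 14, -1)]) (.leaf [(0, 22, -1), (3, 21, 1), (13, 8, -1), (16, 7, 1), (20, 11, 1), (26, 9, -1)]))) 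
    (.node 33 
    (.node 32 (.leaf [(0, 23, 1), (6, 21, -1), (13, 5, -1), (16, 4, 1), (19, 11, 1), (25, 9, -1)]) (.leaf [(3, 23, -1), (6, 22, 1), (13, 2, -1), (16, 1, 1), (18, 11, 1), (24, 9, -1)])) 
    (.node 34 (.leaf [(0, 6, 1), (1, 7, 1), (2, 8, 1), (20, 18, -1), (23, 21, -1), (26, 24, -1)]) 
    (.node 35 (.leaf [(0, 3, 1), (1, 4, 1), (2, 5, 1), (19, 18, -1), (22, 21, -1), (25, 24, -1)]) (.leaf [(3, 6, 1), (4, 7, 1), (5, 8, 1), (20, 19, -1), (23, 22, -1), (26, 25, -1)]))))))) 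
    (.node 54 
    (.node 45 
    (.node 40 
    (.node 38 
    (.node 37 (.leaf [(6, 3, 1), (7, 4, 1), (8, 5, 1), (19, 20, -1), (22, 23, -1), (25, 26, -1)]) (.leaf [(3, 0, 1), (4, 1, 1), (5, 2, 1), (18, 19, -1), (21, 22, -1), (24, 25, -1)])) 
    (.node 39 (.leaf [(6, 0, 1), (7, 1, 1), (8, 2, 1), (18, 20, -1), (21, 23, -1), (24, 26, -1)]) (.leaf [(1, 16, 1), (2, 13, -1), (9, 24, -1), (11, 18, 1), (22, 6, 1), (23, 3, -1)]))) 
    (.node 42 
    (.node 41 (.leaf [(4, 16, 1), (5, 13, -1), (9, 25, -1), (11, 19, 1), (21, 6, -1), (23, 0, 1)]) (.leaf [(7, 16, 1), (8, 13, -1), (9, 26, -1), (11, 20, 1), (21, 3, 1), (22, 0, -1)])) 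
    (.node 43 (.leaf [(0, 1, 1), (3, 4, 1), (6, 7, 1), (12, 9, -1), (13, 10, -1), (14, 11, -1)]) 
    (.node 44 (.leaf [(0, 16, -1), (2, 10, 1), (12, 24, -1), (14, 18, 1), (22, 7, 1), (23, 4, -1)]) (.leaf [(3, 16, -1), (5, 10, 1), (12, 25, -1), (14, 19, 1), (21, 7, -1), (23, 1, 1)]))))) 
    (.node 49 
    (.node 47 
    (.node 46 (.leaf [(6, 16, -1), (8, 10, 1), (12, 26, -1), (14, 20, 1), (21, 4, 1), (22, 1, -1)]) (.leaf [(10, 11, 1), (13, 14, 1), (16, 17, 1), (24, 21, -1), (25, 22, -1), (26, 23, -1)])) 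
    (.node 48 (.leaf [(1, 17, 1), (2, 14, -1), (9, 21, 1), (10, 18, -1), (25, 6, 1), (26, 3, -1)]) (.leaf [(4, 17, 1), (5, 14, -1), (9, 22, 1), (10, 19, -1), (24, 6, -1), (26, 0, 1)]))) 
    (.node 51 
    (.node 50 (.leaf [(7, 17, 1), (8, 14, -1), (9, 23, 1), (10, 20, -1), (24, 3, 1), (25, 0, -1)]) (.leaf [(0, 17, 1), (2, 11, -1), (12, 21, -1), (13, 18, 1), (25, 7, -1), (26, 4, 1)])) 
    (.node 52 (.leaf [(3, 17, 1), (5, 11, -1), (12, 22, -1), (13, 19, 1), (24, 7, 1), (26, 1, -1)]) 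
    (.node 53 (.leaf [(6, 17, 1), (8, 11, -1), (12, 23, -1), (13, 20, 1), (24, 4, -1), (25, 1, 1)]) (.leaf [(2, 19, -1), (5, 18, 1), (9, 7, -1), (12, 6, 1), (23, 17, -1), (26, 16, 1)])))))) 
    (.node 63 
    (.node 58 
    (.node 56 
    (.node 55 (.leaf [(2, 20, -1), (8, 18, 1), (9, 4, 1), (12, 3, -1), (22, 17, 1), (25, 16, -1)]) (.leaf [(5, 20, -1), (8, 19, 1), (9, 1, -1), (12, 0, 1), (21, 17, -1), (24, 16, 1)])) 
    (.node 57 (.leaf [(1, 2, 1), (4, 5, 1), (7, 8, 1), (15, 12, -1), (16, 13, -1), (17, 14, -1)]) (.leaf [(0, 2, 1), (3, 5, 1), (6, 8, 1), (15, 9, -1), (16, 10, -1), (17, 11, -1)]))) 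
    (.node 60 
    (.node 59 (.leaf [(0, 13, 1), (1, 10, -1), (15, 24, -1), (17, 18, 1), (22, 8, 1), (23, 5, -1)]) (.leaf [(3, 13, 1), (4, 10, -1), (15, 25, -1), (17, 19, 1), (21, 8, -1), (23, 2, 1)])) 
    (.node 61 (.leaf [(6, 13, 1), (7, 10, -1), (15, 26, -1), (17, 20, 1), (21, 5, 1), (22, 2, -1)]) 
    (.node 62 (.leaf [(0, 14, -1), (1, 11, 1), (15, 21, -1), (16, 18, 1), (25, 8, -1), (26, 5, 1)]) (.leaf [(3, 14, -1), (4, 11, 1), (15, 22, -1), (16, 19, 1), (24, 8, 1), (26, 2, -1)]))))) 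
    (.node 67 
    (.node 65 
    (.node 64 (.leaf [(6, 14, -1), (7, 11, 1), (15, 23, -1), (16, 20, 1), (24, 5, -1), (25, 2, 1)]) (.leaf [(1, 19, 1), (4, 18, -1), (9, 8, -1), (15, 6, 1), (23, 14, 1), (26, 13, -1)])) 
    (.node 66 (.leaf [(1, 20, 1), (7, 18, -1), (9, 5, 1), (15, 3, -1), (22, 14, -1), (25, 13, 1)]) (.leaf [(4, 20, 1), (7, 19, -1), (9, 2, -1), (15, 0, 1), (21, 14, 1), (24, 13, -1)]))) 
    (.node 69 
    (.node 68 (.leaf [(0, 19, 1), (3, 18, -1), (12, 8, 1), (15, 7, -1), (23, 11, 1), (26, 10, -1)]) (.leaf [(0, 20, 1), (6, 18, -1), (12, 5, -1), (15, 4, 1), (22, 11, -1), (25, 10, 1)])) 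
    (.node 70 (.leaf [(3, 20, 1), (6, 19, -1), (12, 2, 1), (15, 1, -1), (21, 11, 1), (24, 10, -1)]) 
    (.node 71 (.leaf [(9, 10, 1), (12, 13, 1), (15, 16, 1), (21, 18, -1), (22, 19, -1), (23, 20, -1)]) (.leaf [(9, 11, -1), (12, 14, -1), (15, 17, -1), (24, 18, 1), (25, 19, 1), (26, 20, 1)]))))))))

/-- the weights on the fundamental coroots -/
def hwTree : Chev.Tree (Chev.Tree ℤ) :=
  (.node 3 (.node 1 (.leaf (.node 13 (.node 6 (.node 3 (.node 1 (.leaf (0)) (.node 2 (.leaf (1)) (.leaf (-1)))) (.node 4 (.leaf (0)) (.node 5 (.leaf (1)) (.leaf (-1))))) (.node 9 (.node 7 (.leaf (0)) (.node 8 (.leaf (1)) (.leaf (-1)))) (.node 11 (.node 10 (.leaf (0)) (.leaf (0))) (.node 12 (.leaf (0)) (.leaf (-1)))))) (.node 20 (.node 16 (.node 14 (.leaf (-1)) (.node 15 (.leaf (-1)) (.leaf (1)))) (.node 18 (.node 17 (.leaf (1)) (.leaf (1))) (.node 19 (.leaf (0)) (.leaf (0))))) (.node 23 (.node 21 (.leaf (0)) (.node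 22 (.leaf (0)) (.leaf (0)))) (.node 25 (.node 24 (.leaf (0)) (.leaf (0))) (.node 26 (.leaf (0)) (.leaf (0)))))))) (.node 2 (.leaf (.node 13 (.node 6 (.node 3 (.node 1 (.leaf (0)) (.node 2 (.leaf (0)) (.leaf (0)))) (.node 4 (.leaf (0)) (.node 5 (.leaf (0)) (.leaf (0))))) (.node 9 (.node 7 (.leaf (0)) (.node 8 (.leaf (0)) (.leaf (0)))) (.node 11 (.node 10 (.leaf (0)) (.leaf (1))) (.node 12 (.leaf (-1)) (.leaf (0)))))) (.node 20 (.node 16 (.node 14 (.leaf (1)) (.node 15 (.leaf (-1)) (.leaf (0)))) (.node 18 (.node 17 (.leaf (1)) (.leaf (-1))) (.node 19 (.leaf (0)) (.leaf (0))))) (.node 23 (.node 21 (.leaf (0)) (.node 22 (.leaf (-1)) (.leaf (-1)))) (.node 25 (.node 24 (.leaf (-1)) (.leaf (1))) (.node 26 (.leaf (1)) (.leaf (1)))))))) (.leaf (.node 13 (.node 6 (.node 3 (.node 1 (.leaf (1)) (.node 2 (.leaf (-1)) (.leaf (0)))) (.node 4 (.leaf (1)) (.node 5 (.leaf (-1)) (.leaf (0))))) (.node 9 (.node 7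 (.leaf (1)) (.node 8 (.leaf (-1)) (.leaf (0)))) (.node 11 (.node 10 (.leaf (-1)) (.leaf (-1))) (.node 12 (.leaf (-1)) (.leaf (1)))))) (.node 20 (.node 16 (.node 14 (.leaf (1)) (.node 15 (.leaf (1)) (.leaf (0)))) (.node 18 (.node 17 (.leaf (0)) (.leaf (0))) (.node 19 (.leaf (0)) (.leaf (0))))) (.node 23 (.node 21 (.leaf (0)) (.node 22 (.leaf (0)) (.leaf (0)))) (.node 25 (.node 24 (.leaf (0)) (.leaf (0))) (.node 26 (.leaf (0)) (.leaf (0)))))))))) (.node 4 (.leaf (.node 13 (.node 6 (.node 3 (.node 1 (.leaf (0)) (.node 2 (.leaf (1)) (.leaf (1)))) (.node 4 (.leaf (-1)) (.node 5 (.leaf (0)) (.leaf (0))))) (.node 9 (.node 7 (.leaf (-1)) (.node 8 (.leaf (0)) (.leaf (0)))) (.node 11 (.node 10 (.leaf (1)) (.leaf (0))) (.node 12 (.leaf (1)) (.leaf (0)))))) (.node 20 (.node 16 (.node 14 (.leaf (-1)) (.node 15 (.leaf (0)) (.leaf (0)))) (.node 18 (.node 17 (.leaf (-1)) (.leaf (0))) (.node 19 (.leaf (-1)) (.leaf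 (0))))) (.node 23 (.node 21 (.leaf (0)) (.node 22 (.leaf (0)) (.leaf (1)))) (.node 25 (.node 24 (.leaf (1)) (.leaf (-1))) (.node 26 (.leaf (0)) (.leaf (0)))))))) (.node 5 (.leaf (.node 13 (.node 6 (.node 3 (.node 1 (.leaf (-1)) (.node 2 (.leaf (-1)) (.leaf (-1)))) (.node 4 (.leaf (1)) (.node 5 (.leaf (1)) (.leaf (1))))) (.node 9 (.node 7 (.leaf (0)) (.node 8 (.leaf (0)) (.leaf (0)))) (.node 11 (.node 10 (.leaf (0)) (.leaf (0))) (.node 12 (.leaf (0)) (.leaf (0)))))) (.node 20 (.node 16 (.node 14 (.leaf (0)) (.node 15 (.leaf (0)) (.leaf (0)))) (.node 18 (.node 17 (.leaf (0)) (.leaf (0))) (.node 19 (.leaf (1)) (.leaf (-1))))) (.node 23 (.node 21 (.leaf (0)) (.node 22 (.leaf (1)) (.leaf (-1)))) (.node 25 (.node 24 (.leaf (0)) (.leaf (1))) (.node 26 (.leaf (-1)) (.leaf (0)))))))) (.leaf (.node 13 (.node 6 (.node 3 (.node 1 (.leaf (0)) (.node 2 (.leaf (0)) (.leaf (0)))) (.node 4 (.leaf (-1)) (.node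 5 (.leaf (-1)) (.leaf (-1))))) (.node 9 (.node 7 (.leaf (1)) (.node 8 (.leaf (1)) (.leaf (1)))) (.node 11 (.node 10 (.leaf (0)) (.leaf (0))) (.node 12 (.leaf (0)) (.leaf (0)))))) (.node 20 (.node 16 (.node 14 (.leaf (0)) (.node 15 (.leaf (0)) (.leaf (0)))) (.node 18 (.node 17 (.leaf (0)) (.leaf (0))) (.node 19 (.leaf (0)) (.leaf (1))))) (.node 23 (.node 21 (.leaf (-1)) (.node 22 (.leaf (0)) (.leaf (1)))) (.node 25 (.node 24 (.leaf (-1)) (.leaf (0))) (.node 26 (.leaf (1)) (.leaf (-1)))))))))))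

/-- for each weight, the pairs (partner, third weight of the monomial) -/
def ptnTree : Chev.Tree (List (ℕ × ℕ)) :=
  
    (.node 13 
    (.node 6 
    (.node 3 
    (.node 1 (.leaf [(4, 8), (5, 7), (7, 5), (8, 4), (9, 18), (10, 21), (11, 24), (18, 9), (21, 10), (24, 11)]) 
    (.node 2 (.leaf [(3, 8), (5, 6), (6, 5), (8, 3), (12, 18), (13, 21), (14, 24), (18, 12), (21, 13), (24, 14)]) (.leaf [(3, 7), (4, 6), (6, 4), (7, 3), (15, 18), (16, 21), (17, 24), (18, 15), (21, 16), (24, 17)]))) 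
    (.node 4 (.leaf [(1, 8), (2, 7), (7, 2), (8, 1), (9, 19), (10, 22), (11, 25), (19, 9), (22, 10), (25, 11)]) 
    (.node 5 (.leaf [(0, 8), (2, 6), (6, 2), (8, 0), (12, 19), (13, 22), (14, 25), (19, 12), (22, 13), (25, 14)]) (.leaf [(0, 7), (1, 6), (6, 1), (7, 0), (15, 19), (16, 22), (17, 25), (19, 15), (22, 16), (25, 17)])))) 
    (.node 9 
    (.node 7 (.leaf [(1, 5), (2, 4), (4, 2), (5, 1), (9, 20), (10, 23), (11, 26), (20, 9), (23, 10), (26, 11)]) 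
    (.node 8 (.leaf [(0, 5), (2, 3), (3, 2), (5, 0), (12, 20), (13, 23), (14, 26), (20, 12), (23, 13), (26, 14)]) (.leaf [(0, 4), (1, 3), (3, 1), (4, 0), (15, 20), (16, 23), (17, 26), (20, 15), (23, 16), (26, 17)]))) 
    (.node 11 
    (.node 10 (.leaf [(0, 18), (3, 19), (6, 20), (13, 17), (14, 16), (16, 14), (17, 13), (18, 0), (19, 3), (20, 6)]) (.leaf [(0, 21), (3, 22), (6, 23), (12, 17), (14, 15), (15, 14), (17, 12), (21, 0), (22, 3), (23, 6)])) 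
    (.node 12 (.leaf [(0, 24), (3, 25), (6, 26), (12, 16), (13, 15), (15, 13), (16, 12), (24, 0), (25, 3), (26, 6)]) (.leaf [(1, 18), (4, 19), (7, 20), (10, 17), (11, 16), (16, 11), (17, 10), (18, 1), (19, 4), (20, 7)]))))) 
    (.node 20 
    (.node 16 
    (.node 14 (.leaf [(1, 21), (4, 22), (7, 23), (9, 17), (11, 15), (15, 11), (17, 9), (21, 1), (22, 4), (23, 7)]) 
    (.node 15 (.leaf [(1, 24), (4, 25), (7, 26), (9, 16), (10, 15), (15, 10), (16, 9), (24, 1), (25, 4), (26, 7)]) (.leaf [(2, 18), (5, 19), (8, 20), (10, 14), (11, 13), (13, 11), (14, 10), (18, 2), (19, 5), (20, 8)]))) 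
    (.node 18 
    (.node 17 (.leaf [(2, 21), (5, 22), (8, 23), (9, 14), (11, 12), (12, 11), (14, 9), (21, 2), (22, 5), (23, 8)]) (.leaf [(2, 24), (5, 25), (8, 26), (9, 13), (10, 12), (12, 10), (13, 9), (24, 2), (25, 5), (26, 8)])) 
    (.node 19 (.leaf [(0, 9), (1, 12), (2, 15), (9, 0), (12, 1), (15, 2), (22, 26), (23, 25), (25, 23), (26, 22)]) (.leaf [(3, 9), (4, 12), (5, 15), (9, 3), (12, 4), (15, 5), (21, 26), (23, 24), (24, 23), (26, 21)])))) 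
    (.node 23 
    (.node 21 (.leaf [(6, 9), (7, 12), (8, 15), (9, 6), (12, 7), (15, 8), (21, 25), (22, 24), (24, 22), (25, 21)]) 
    (.node 22 (.leaf [(0, 10), (1, 13), (2, 16), (10, 0), (13, 1), (16, 2), (19, 26), (20, 25), (25, 20), (26, 19)]) (.leaf [(3, 10), (4, 13), (5, 16), (10, 3), (13, 4), (16, 5), (18, 26), (20, 24), (24, 20), (26, 18)]))) 
    (.node 25 
    (.node 24 (.leaf [(6, 10), (7, 13), (8, 16), (10, 6), (13, 7), (16, 8), (18, 25), (19, 24), (24, 19), (25, 18)]) (.leaf [(0, 11), (1, 14), (2, 17), (11, 0), (14, 1), (17, 2), (19, 23), (20, 22), (22, 20), (23, 19)])) 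
    (.node 26 (.leaf [(3, 11), (4, 14), (5, 17), (11, 3), (14, 4), (17, 5), (18, 23), (20, 21), (21, 20), (23, 18)]) (.leaf [(6, 11), (7, 14), (8, 17), (11, 6), (14, 7), (17, 8), (18, 22), (19, 21), (21, 19), (22, 18)]))))))

/-- for each weight, the pairs (root, neighbour reached from it) -/
def adjTree : Chev.Tree (List (ℕ × ℕ)) :=
  
    (.node 13 
    (.node 6 
    (.node 3 
    (.node 1 (.leaf [(3, 20), (4, 19), (10, 14), (13, 13), (14, 2), (21, 17), (28, 16), (29, 1), (37, 3), (38, 6), (40, 23), (41, 22), (48, 26), (49, 25), (55, 12), (66, 15)]) 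
    (.node 2 (.leaf [(6, 20), (7, 19), (10, 11), (13, 10), (15, 2), (24, 17), (32, 16), (37, 4), (38, 7), (42, 0), (44, 23), (45, 22), (51, 26), (52, 25), (55, 9), (69, 15)]) (.leaf [(17, 20), (18, 19), (21, 11), (24, 14), (28, 10), (32, 13), (37, 5), (38, 8), (56, 1), (57, 0), (59, 23), (60, 22), (62, 26), (63, 25), (66, 9), (69, 12)]))) 
    (.node 4 (.leaf [(2, 20), (4, 18), (9, 14), (12, 13), (14, 5), (20, 17), (27, 16), (29, 4), (34, 0), (36, 6), (39, 23), (41, 21), (47, 26), (49, 24), (54, 12), (65, 15)]) 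
    (.node 5 (.leaf [(5, 20), (7, 18), (9, 11), (12, 10), (15, 5), (23, 17), (31, 16), (34, 1), (36, 7), (42, 3), (43, 23), (45, 21), (50, 26), (52, 24), (54, 9), (68, 15)]) (.leaf [(16, 20), (18, 18), (20, 11), (23, 14), (27, 10), (31, 13), (34, 2), (36, 8), (56, 4), (57, 3), (58, 23), (60, 21), (61, 26), (63, 24), (65, 9), (68, 12)])))) 
    (.node 9 
    (.node 7 (.leaf [(2, 19), (3, 18), (8, 14), (11, 13), (14, 8), (19, 17), (26, 16), (29, 7), (33, 0), (35, 3), (39, 22), (40, 21), (47, 25), (48, 24), (53, 12), (64, 15)]) 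
    (.node 8 (.leaf [(5, 19), (6, 18), (8, 11), (11, 10), (15, 8), (22, 17), (30, 16), (33, 1), (35, 4), (42, 6), (43, 22), (44, 21), (50, 25), (51, 24), (53, 9), (67, 15)]) (.leaf [(16, 19), (17, 18), (19, 11), (22, 14), (26, 10), (30, 13), (33, 2), (35, 5), (56, 7), (57, 6), (58, 22), (59, 21), (61, 25), (62, 24), (64, 9), (67, 12)]))) 
    (.node 11 
    (.node 10 (.leaf [(0, 11), (1, 10), (5, 2), (6, 5), (7, 8), (16, 1), (17, 4), (18, 7), (22, 23), (23, 22), (24, 21), (30, 26), (31, 25), (32, 24), (42, 12), (57, 15)]) (.leaf [(22, 20), (23, 19), (24, 18), (25, 11), (42, 13), (43, 2), (44, 5), (45, 8), (57, 16), (58, 1), (59, 4), (60, 7), (67, 26), (68, 25), (69, 24), (70, 9)])) 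
    (.node 12 (.leaf [(30, 20), (31, 19), (32, 18), (42, 14), (46, 10), (50, 2), (51, 5), (52, 8), (57, 17), (61, 1), (62, 4), (63, 7), (67, 23), (68, 22), (69, 21), (71, 9)]) (.leaf [(0, 14), (1, 13), (2, 2), (3, 5), (4, 8), (16, 0), (17, 3), (18, 6), (19, 23), (20, 22), (21, 21), (26, 26), (27, 25), (28, 24), (29, 9), (56, 15)]))))) 
    (.node 20 
    (.node 16 
    (.node 14 (.leaf [(19, 20), (20, 19), (21, 18), (25, 14), (29, 10), (39, 2), (40, 5), (41, 8), (56, 16), (58, 0), (59, 3), (60, 6), (64, 26), (65, 25), (66, 24), (70, 12)]) 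
    (.node 15 (.leaf [(26, 20), (27, 19), (28, 18), (29, 11), (46, 13), (47, 2), (48, 5), (49, 8), (56, 17), (61, 0), (62, 3), (63, 6), (64, 23), (65, 22), (66, 21), (71, 12)]) (.leaf [(0, 17), (1, 16), (2, 1), (3, 4), (4, 7), (5, 0), (6, 3), (7, 6), (8, 23), (9, 22), (10, 21), (11, 26), (12, 25), (13, 24), (14, 9), (15, 12)]))) 
    (.node 18 
    (.node 17 (.leaf [(8, 20), (9, 19), (10, 18), (14, 10), (15, 13), (25, 17), (39, 1), (40, 4), (41, 7), (43, 0), (44, 3), (45, 6), (53, 26), (54, 25), (55, 24), (70, 15)]) (.leaf [(11, 20), (12, 19), (13, 18), (14, 11), (15, 14), (46, 16), (47, 1), (48, 4), (49, 7), (50, 0), (51, 3), (52, 6), (53, 23), (54, 22), (55, 21), (71, 15)])) 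
    (.node 19 (.leaf [(33, 20), (34, 19), (39, 11), (43, 14), (47, 10), (50, 13), (53, 5), (54, 8), (58, 17), (61, 16), (64, 4), (65, 7), (67, 3), (68, 6), (70, 21), (71, 24)]) (.leaf [(35, 20), (37, 18), (40, 11), (44, 14), (48, 10), (51, 13), (53, 2), (55, 8), (59, 17), (62, 16), (64, 1), (66, 7), (67, 0), (69, 6), (70, 22), (71, 25)])))) 
    (.node 23 
    (.node 21 (.leaf [(36, 19), (38, 18), (41, 11), (45, 14), (49, 10), (52, 13), (54, 2), (55, 5), (60, 17), (63, 16), (65, 1), (66, 4), (68, 0), (69, 3), (70, 23), (71, 26)]) 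
    (.node 22 (.leaf [(1, 18), (2, 11), (5, 14), (11, 5), (12, 8), (16, 17), (26, 4), (27, 7), (30, 3), (31, 6), (33, 23), (34, 22), (46, 24), (47, 9), (50, 12), (61, 15)]) (.leaf [(1, 19), (3, 11), (6, 14), (11, 2), (13, 8), (17, 17), (26, 1), (28, 7), (30, 0), (32, 6), (35, 23), (37, 21), (46, 25), (48, 9), (51, 12), (62, 15)]))) 
    (.node 25 
    (.node 24 (.leaf [(1, 20), (4, 11), (7, 14), (12, 2), (13, 5), (18, 17), (27, 1), (28, 4), (31, 0), (32, 3), (36, 22), (38, 21), (46, 26), (49, 9), (52, 12), (63, 15)]) (.leaf [(0, 18), (2, 10), (5, 13), (8, 5), (9, 8), (16, 16), (19, 4), (20, 7), (22, 3), (23, 6), (25, 21), (33, 26), (34, 25), (39, 9), (43, 12), (58, 15)])) 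
    (.node 26 (.leaf [(0, 19), (3, 10), (6, 13), (8, 2), (10, 8), (17, 16), (19, 1), (21, 7), (22, 0), (24, 6), (25, 22), (35, 26), (37, 24), (40, 9), (44, 12), (59, 15)]) (.leaf [(0, 20), (4, 10), (7, 13), (9, 2), (10, 5), (18, 16), (20, 1), (21, 4), (23, 0), (24, 3), (25, 23), (36, 25), (38, 24), (41, 9), (45, 12), (60, 15)]))))))

/-- the order of the frame -/
def frameOrder : List ℕ :=
  [0, 4, 8, 1, 3, 2, 6, 5, 7, 9, 18, 12, 15, 19, 20, 10, 14, 16, 11, 13, 17, 21, 22, 23, 24, 25, 26]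

/-- how the image of the next weight vector is moved back -/
inductive Info where
  | pair (a b : ℕ)
  | nbr (s : Option ℕ) (paths : List (ℕ × List (ℕ × ℕ)))

/-- the steps of the frame argument -/
def frameInfo : List (ℕ × Info) :=
  [(0, (.nbr none [(0, []),
      (1, [(42, 0)]),
      (2, [(57, 0)]),
      (3, [(34, 0)]),
      (4, [(34, 1), (42, 0)]),
      (5, [(34, 2), (57, 0)]),
      (6, [(33, 0)]),
      (7, [(33, 1), (42, 0)]),
      (8, [(33, 2), (57, 0)]),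
      (9, [(16, 1), (42, 0)]),
      (10, [(58, 1), (42, 0)]),
      (11, [(61, 1), (42, 0)]),
      (12, [(16, 0)]),
      (13, [(58, 0)]),
      (14, [(61, 0)]),
      (15, [(5, 0)]),
      (16, [(43, 0)]),
      (17, [(50, 0)]),
      (18, [(67, 3), (34, 0)]),
      (19, [(67, 0)]),
      (20, [(68, 0)]),
      (21, [(30, 3), (34, 0)]),
      (22, [(30, 0)]),
      (23, [(31, 0)]),
      (24, [(22, 3), (34, 0)]),
      (25, [(22, 0)]),
      (26, [(23, 0)])])),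
    (4, (.nbr (some 0) [(4, []),
      (5, [(56, 4)]),
      (7, [(35, 4)]),
      (8, [(35, 5), (56, 4)]),
      (9, [(17, 4)]),
      (10, [(59, 4)]),
      (11, [(62, 4)]),
      (18, [(64, 4)]),
      (21, [(26, 4)]),
      (24, [(19, 4)])])),
    (8, (.pair 0 4)),
    (1, (.nbr (some 8) [(1, []),
      (3, [(65, 15), (2, 1)]),
      (15, [(2, 1)]),
      (16, [(39, 1)]),
      (17, [(47, 1)]),
      (20, [(65, 1)]),
      (23, [(27, 1)]),
      (26, [(20, 1)])])),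
    (3, (.pair 8 1)),
    (2, (.nbr (some 4) [(2, []),
      (19, [(53, 2)]),
      (22, [(11, 2)]),
      (25, [(8, 2)])])),
    (6, (.pair 4 2)),
    (5, (.pair 1 6)),
    (7, (.pair 0 5)),
    (9, (.nbr (some 0) [(9, []),
      (10, [(70, 9)]),
      (11, [(71, 9)])])),
    (18, (.pair 0 9)),
    (12, (.pair 1 18)),
    (15, (.pair 2 18)),
    (19, (.pair 4 12)),
    (20, (.pair 8 15)),
    (10, (.nbr (some 0) [(10, []),
      (11, [(46, 10)])])),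
    (14, (.pair 15 10)),
    (16, (.pair 9 14)),
    (11, (.pair 12 16)),
    (13, (.pair 15 11)),
    (17, (.pair 9 13)),
    (21, (.pair 0 10)),
    (22, (.pair 4 13)),
    (23, (.pair 8 16)),
    (24, (.pair 0 11)),
    (25, (.pair 4 14)),
    (26, (.pair 8 17))]

/-- six weights whose coroot values form a unimodular matrix -/
def six : List ℕ :=
  [0, 4, 1, 2, 9, 10]

/-- the inverse of that matrix -/
def sixInv : List (List ℤ) :=
  [[1, 0, 0, -1, 1, 0], [2, 0, -1, -1, 2, 1], [2, 0, -1, -1, 2, 0], [2, 0, -1, -1, 3, 0], [1, 0, -1, -1, 2, 0], [0, -1, 0, -1, 1, 0]]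

end CfsgLib.Lie.E6
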