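import Cfsg.Agent.Lib.Lie.E6.Sparse

/-!
# The cubic form by its monomials, its polarisations, and linear substitutions
-/

set_option autoImplicit false

namespace CfsgLib.Lie.E6

open Cfsg.Lie CfsgLib.Lie.Chev

variable {R : Type*} [CommRing R]

/-- the sum over the monomials of a function of a monomial -/
def monSum (f : ℕ → ℕ → ℕ → R) (ms : List (ℤ × ℕ × ℕ × ℕ)) : R :=
  (ms.map fun m => (m.1 : R) * f m.2.1 m.2.2.1 m.2.2.2).sum

theorem monSum_nil (f : ℕ → ℕ → ℕ → R) : monSum f [] = 0 := rfl

theorem monSum_cons (f : ℕ → ℕ → ℕ → R) (m : ℤ × ℕ × ℕ × ℕ) (ms : List (ℤ × ℕ × ℕ × ℕ)) :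
    monSum f (m :: ms) = (m.1 : R) * f m.2.1 m.2.2.1 m.2.2.2 + monSum f ms := rfl

theorem monSum_congr {f g : ℕ → ℕ → ℕ → R} {ms : List (ℤ × ℕ × ℕ × ℕ)}
    (h : ∀ m ∈ ms, f m.2.1 m.2.2.1 m.2.2.2 = g m.2.1 m.2.2.1 m.2.2.2) : monSum f ms = monSum g ms := by
  unfold monSum
  exact congrArg List.sum (List.map_congr_left fun m hm => by rw [h m hm])

/-- the product of three coordinates -/
def prod3 (u v w : I27 → R) (a b c : ℕ) : R := u (wi a) * v (wi b) * w (wi c)

/-- the form -/
def cform (v : I27 → R) : R := monSum (prod3 v v v) mons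

/-- the coefficient of the first power of the parameter on a line -/
def aform (v u : I27 → R) : R :=
  monSum (fun a b c => prod3 u v v a b c + prod3 v u v a b c + prod3 v v u a b c) mons

/-- the symmetric trilinear form -/
def tform (x y z : I27 → R) : R :=
  monSum (fun a b c => prod3 x y z a b c + prod3 x z y a b c + prod3 y x z a b c +
    prod3 y z x a b c + prod3 z x y a b c + prod3 z y x a b c) mons

theorem cubicT_eq (v : I27 → R) : cubicT v = cform v := by
  simp [cubicT, cform, monSum, mons, prod3, wi, mat3, Matrix.det_fin_three, Matrix.trace,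
    Matrix.diag, Matrix.mul_apply, Fin.sum_univ_three]
  ring

theorem cform_line (v u : I27 → R) (s : R) :
    cform (v + s • u) = cform v + s * aform v u + s ^ 2 * aform u v + s ^ 3 * cform u := by
  unfold cform aform
  induction mons with
  | nil => simp [monSum_nil]
  | cons m ms ih =>
    simp only [monSum_cons, ih, prod3, Pi.add_apply, Pi.smul_apply, smul_eq_mul]
    ring

theorem cform_polar (x y z : I27 → R) :
    cform (x + y + z) - cform (x + y) - cform (x + z) - cform (y + z) + cform x + cform y + cform z =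
      tform x y z := by
  unfold cform tform
  induction mons with
  | nil => simp [monSum_nil]
  | cons m ms ih =>
    simp only [monSum_cons, prod3, Pi.add_apply]
    simp only [prod3, Pi.add_apply] at ih
    linear_combination ih

theorem tform_smul (a b : R) (x y z : I27 → R) :
    tform (a • x) (b • y) z = a * b * tform x y z := by
  unfold tform
  induction mons with
  | nil => simp [monSum_nil]
  | cons m ms ih =>
    rw [monSum_cons, monSum_cons, ih]
    simp only [prod3, Pi.smul_apply, smul_eq_mul]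
    ring

theorem tform_smul_third (a : R) (x y z : I27 → R) : tform x y (a • z) = a * tform x y z := by
  unfold tform
  induction mons with
  | nil => simp [monSum_nil]
  | cons m ms ih =>
    rw [monSum_cons, monSum_cons, ih]
    simp only [prod3, Pi.smul_apply, smul_eq_mul]
    ring

theorem aform_smul (a : R) (v u : I27 → R) : aform (a • v) u = a ^ 2 * aform v u := by
  unfold aform
  induction mons with
  | nil => simp [monSum_nil]
  | cons m ms ih =>
    rw [monSum_cons, monSum_cons, ih]
    simp only [prod3, Pi.smul_apply, smul_eq_mul]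
    ring

/-! ### Substitutions -/

/-- the value at a coordinate of a combination of coordinates -/
def coordsOf (v : I27 → R) (n : ℕ) : R := v (wi n)

/-- the monomial with a given number -/
def mon3 (v : I27 → R) (k : ℕ) : R := v (wi (k / 729)) * v (wi (k / 27 % 27)) * v (wi (k % 27))

/-- the number of the monomial of three coordinates -/
noncomputable def code3 (a b c : ℕ) : ℕ :=
  cond (Nat.ble a b)
    (cond (Nat.ble b c) (729 * a + 27 * b + c)
      (cond (Nat.ble a c) (729 * a + 27 * c + b) (729 * c + 27 * a + b)))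
    (cond (Nat.ble a c) (729 * b + 27 * a + c)
      (cond (Nat.ble b c) (729 * b + 27 * c + a) (729 * c + 27 * b + a)))

theorem mon3_code3 (v : I27 → R) {a b c : ℕ} (ha : a < 27) (hb : b < 27) (hc : c < 27) :
    mon3 v (code3 a b c) = v (wi a) * v (wi b) * v (wi c) := by
  have hd : ∀ x y z : ℕ, x < 27 → y < 27 → z < 27 →
      mon3 v (729 * x + 27 * y + z) = v (wi x) * v (wi y) * v (wi z) := by
    intro x y z hx hy hz
    rw [mon3, show (729 * x + 27 * y + z) / 729 = x by omega,
      show (729 * x + 27 * y + z) / 27 % 27 = y by omega,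
      show (729 * x + 27 * y + z) % 27 = z by omega]
  unfold code3
  cases Nat.ble a b <;> cases Nat.ble b c <;> cases Nat.ble a c <;> simp only [cond_true, cond_false] <;>
    rw [hd] <;> first | omega | ring

/-- bind over a sparse combination -/
noncomputable def mul3 (c : ℤ) (l₁ l₂ l₃ : List (ℕ × ℤ)) : List (ℕ × ℤ) :=
  List.rec [] (fun e₁ _ ih₁ =>
    List.rec ih₁ (fun e₂ _ ih₂ =>
      List.rec ih₂ (fun e₃ _ ih₃ => (code3 e₁.1 e₂.1 e₃.1, c * e₁.2 * e₂.2 * e₃.2) :: ih₃) l₃) l₂) l₁

/-- all keys are numbers of coordinates -/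
def coordKeys (l : List (ℕ × ℤ)) : Prop := ∀ e ∈ l, e.1 < 27

theorem evalSp_mul3 (v : I27 → R) (c : ℤ) {l₁ l₂ l₃ : List (ℕ × ℤ)} (h₁ : coordKeys l₁)
    (h₂ : coordKeys l₂) (h₃ : coordKeys l₃) :
    evalSp (mon3 v) (mul3 c l₁ l₂ l₃) =
      (c : R) * evalSp (coordsOf v) l₁ * evalSp (coordsOf v) l₂ * evalSp (coordsOf v) l₃ := by
  induction l₁ with
  | nil => simp [mul3]
  | cons e₁ l₁ ih₁ =>
    have ih₁' := ih₁ fun x hx => h₁ x (List.mem_cons_of_mem _ hx)
    have he₁ := h₁ e₁ List.mem_cons_self
    have key : ∀ (t : List (ℕ × ℤ)) (m₂ : List (ℕ × ℤ)), coordKeys m₂ →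
        evalSp (mon3 v) (List.rec t (fun e₂ _ ih₂ =>
          List.rec ih₂ (fun e₃ _ ih₃ => (code3 e₁.1 e₂.1 e₃.1, c * e₁.2 * e₂.2 * e₃.2) :: ih₃) l₃) m₂) =
          (c : R) * (e₁.2 • coordsOf v e₁.1) * evalSp (coordsOf v) m₂ * evalSp (coordsOf v) l₃ +
            evalSp (mon3 v) t := by
      intro t m₂ hm₂
      induction m₂ with
      | nil => simp
      | cons e₂ m₂ ih₂ =>
        have he₂ := hm₂ e₂ List.mem_cons_self
        have key3 : ∀ (u : List (ℕ × ℤ)) (m₃ : List (ℕ × ℤ)), coordKeys m₃ →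
            evalSp (mon3 v) (List.rec u (fun e₃ _ ih₃ =>
              (code3 e₁.1 e₂.1 e₃.1, c * e₁.2 * e₂.2 * e₃.2) :: ih₃) m₃) =
              (c : R) * (e₁.2 • coordsOf v e₁.1) * (e₂.2 • coordsOf v e₂.1) * evalSp (coordsOf v) m₃ +
                evalSp (mon3 v) u := by
          intro u m₃ hm₃
          induction m₃ with
          | nil => simp
          | cons e₃ m₃ ih₃ =>
            simp only [evalSp_cons, ih₃ fun x hx => hm₃ x (List.mem_cons_of_mem _ hx),
              mon3_code3 v he₁ he₂ (hm₃ e₃ List.mem_cons_self), zsmul_eq_mul, coordsOf]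
            push_cast
            ring
        simp only [key3 _ l₃ h₃, ih₂ fun x hx => hm₂ x (List.mem_cons_of_mem _ hx), evalSp_cons]
        ring
    rw [show mul3 c (e₁ :: l₁) l₂ l₃ = List.rec (mul3 c l₁ l₂ l₃) (fun e₂ _ ih₂ =>
      List.rec ih₂ (fun e₃ _ ih₃ => (code3 e₁.1 e₂.1 e₃.1, c * e₁.2 * e₂.2 * e₃.2) :: ih₃) l₃) l₂
      from rfl, key _ l₂ h₂, ih₁', evalSp_cons]
    ring

/-- the substituted form -/
noncomputable def substSum (f g h : ℕ → List (ℕ × ℤ)) (ms : List (ℤ × ℕ × ℕ × ℕ)) : List (ℕ × ℤ) :=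
  List.rec [] (fun m _ ih => mul3 m.1 (f m.2.1) (g m.2.2.1) (h m.2.2.2) ++ ih) ms

theorem evalSp_substSum (v : I27 → R) {f g h : ℕ → List (ℕ × ℤ)}
    (hf : ∀ n, coordKeys (f n)) (hg : ∀ n, coordKeys (g n)) (hh : ∀ n, coordKeys (h n))
    (ms : List (ℤ × ℕ × ℕ × ℕ)) :
    evalSp (mon3 v) (substSum f g h ms) =
      monSum (fun a b c => evalSp (coordsOf v) (f a) * evalSp (coordsOf v) (g b) *
        evalSp (coordsOf v) (h c)) ms := by
  induction ms with
  | nil => simp [substSum, monSum_nil]
  | cons m ms ih =>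
    rw [show substSum f g h (m :: ms) =
      mul3 m.1 (f m.2.1) (g m.2.2.1) (h m.2.2.2) ++ substSum f g h ms from rfl, evalSp_append,
      evalSp_mul3 v _ (hf _) (hg _) (hh _), ih, monSum_cons]
    ring

/-- the combination giving a coordinate of the product with a sparse matrix -/
noncomputable def rowOf (l : List (ℕ × ℤ)) (x : ℕ) : List (ℕ × ℤ) :=
  List.rec [] (fun e _ ih => cond (Nat.beq (e.1 / 27) x) ((e.1 % 27, e.2) :: ih) ih) l

theorem coordKeys_rowOf (l : List (ℕ × ℤ)) (x : ℕ) : coordKeys (rowOf l x) := by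
  induction l with
  | nil => intro e he; exact absurd he List.not_mem_nil
  | cons e l ih =>
    show coordKeys (cond (Nat.beq (e.1 / 27) x) ((e.1 % 27, e.2) :: rowOf l x) (rowOf l x))
    cases Nat.beq (e.1 / 27) x
    · simpa using ih
    · intro y hy
      rcases List.mem_cons.1 hy with rfl | hy
      · exact Nat.mod_lt _ (by norm_num)
      · exact ih y hy

theorem toM_mulVec (v : I27 → R) {l : List (ℕ × ℤ)} (hl : keysOK l = true) {x : ℕ} (hx : x < 27) :
    Matrix.mulVec (toM R l) v (wi x) = evalSp (coordsOf v) (rowOf l x) := by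
  have h := keysOK_spec hl
  clear hl
  induction l with
  | nil => simp [rowOf]
  | cons e l ih =>
    have he := h e List.mem_cons_self
    rw [toM_cons, Matrix.add_mulVec, Pi.add_apply, ih fun y hy => h y (List.mem_cons_of_mem _ hy),
      Matrix.smul_mulVec, Pi.smul_apply, munit]
    show _ = evalSp _ (cond (Nat.beq (e.1 / 27) x) ((e.1 % 27, e.2) :: rowOf l x) (rowOf l x))
    by_cases hc : e.1 / 27 = x
    · rw [show Nat.beq (e.1 / 27) x = true from by rw [hc]; exact Nat.beq_refl _, cond_true,
        evalSp_cons, Matrix.single_mulVec, hc, Function.update_self, one_mul]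
      rfl
    · rw [Bool.eq_false_iff.2 fun hb => hc (Nat.eq_of_beq_eq_true hb), cond_false,
        Matrix.single_mulVec, Function.update_of_ne
          (fun hb => hc ((wi_inj (by omega) hx).1 hb.symm)), Pi.zero_apply, smul_zero, zero_add]

end CfsgLib.Lie.E6
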