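import Cfsg.Agent.Lib.Lie.E6.FrameCheck

/-!
# The isometry group of the cubic form is generated by the root elements

An isometry is moved, by root elements fixing the lines already fixed, to one fixing all 27
coordinate lines; such an isometry is in the torus.
-/

set_option autoImplicit false

namespace CfsgLib.Lie.E6

open Cfsg.Lie CfsgLib.Lie.Chev
open scoped MatrixGroups

variable {F : Type*} [Field F] [Fintype F]

omit [Fintype F] in
theorem tform_smul_first (a : F) (x y z : I27 → F) : tform (a • x) y z = a * tform x y z := by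
  conv_lhs => rw [← one_smul F y]
  rw [tform_smul, mul_one]

section tables

variable {w : ℕ} (hw : w < 27)

include hw

omit [Fintype F] in
theorem wt_facts : bilKeys (linT w mons) = true ∧ bilKeys (linA w mons) = true ∧
    (∀ e ∈ linT w mons, isPtn w e.1 = true) ∧
    (∀ p ∈ ptnTree.get w, p.1 < 27 ∧ p.2 < 27 ∧ isUnitSingle p.1 (pick p.2 (linT w mons)) = true ∧
      isChartTerm w p.1 (dropAdj w (linA p.2 mons)) = true) ∧
    (∀ p ∈ adjTree.get w, p.1 < 72 ∧ p.2 < 27 ∧ rowOf (opU p.1) w = [] ∧ movesBy p.1 p.2 w = true ∧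
      ∀ p2 ∈ adjTree.get w, p2.2 = p.2 ∨ rowOf (opU p.1) p2.2 = []) ∧
    ∀ a < 27, a = w ∨ isAdj w a = true ∨ isPtn w a = true := by
  have h := allLt_spec chkWt_all w hw
  simp only [chkWt, Bool.and_eq_true] at h
  obtain ⟨⟨⟨⟨⟨h1, h2⟩, h3⟩, h4⟩, h5⟩, h6⟩ := h
  refine ⟨h1, h2, fun e he => allList_spec h3 e he, fun p hp => ?_, fun p hp => ?_, fun a ha => ?_⟩
  · have := allList_spec h4 p hp
    simp only [Bool.and_eq_true, Nat.blt, Nat.ble_eq] at this
    exact ⟨this.1.1.1, this.1.1.2, this.1.2, this.2⟩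
  · have := allList_spec h5 p hp
    simp only [Bool.and_eq_true, Nat.blt, Nat.ble_eq] at this
    refine ⟨this.1.1.1.1, this.1.1.1.2, List.isEmpty_iff.1 this.1.1.2, this.1.2, fun p2 hp2 => ?_⟩
    have q := allList_spec this.2 p2 hp2
    simp only [Bool.or_eq_true] at q
    exact q.imp Nat.eq_of_beq_eq_true List.isEmpty_iff.1
  · have := allLt_spec h6 a ha
    simp only [Bool.or_eq_true] at this
    rcases this with (q | q) | q
    · exact Or.inl (Nat.eq_of_beq_eq_true q)
    · exact Or.inr (Or.inl q)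
    · exact Or.inr (Or.inr q)

omit [Fintype F] in
theorem adj_mem {a : ℕ} (h : isAdj w a = true) : ∃ r, (r, a) ∈ adjTree.get w := by
  obtain ⟨p, hp, rfl⟩ := List.mem_map.1 (memN_iff.1 h)
  exact ⟨p.1, hp⟩

omit [Fintype F] in
theorem ptn_mem {a : ℕ} (h : isPtn w a = true) : ∃ z, (a, z) ∈ ptnTree.get w := by
  obtain ⟨p, hp, rfl⟩ := List.mem_map.1 (memN_iff.1 h)
  exact ⟨p.2, hp⟩

omit [Fintype F] in
theorem isPtn_lt {a : ℕ} (h : isPtn w a = true) : a < 27 := by
  obtain ⟨z, hz⟩ := ptn_mem hw h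
  exact ((wt_facts hw).2.2.2.1 _ hz).1

omit [Fintype F] in
theorem tform_eq_zero {v : I27 → F} (h : ∀ a, isPtn w a = true → v (wi a) = 0) (x : I27 → F) :
    tform (ev w) v x = 0 := by
  rw [tform_ev hw]
  refine List.sum_eq_zero fun z hz => ?_
  obtain ⟨e, he, rfl⟩ := List.mem_map.1 hz
  simp [h _ ((wt_facts hw).2.2.1 e he)]

omit [Fintype F] in
theorem tform_ptn {a z : ℕ} (h : (a, z) ∈ ptnTree.get w) :
    ∃ σ : F, σ ≠ 0 ∧ ∀ v : I27 → F, tform (ev w) v (ev z) = σ * v (wi a) := by
  obtain ⟨ha, hz, hs, -⟩ := (wt_facts hw).2.2.2.1 _ h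
  obtain ⟨σ, hσ, hσ'⟩ := isUnitSingle_spec hs
  refine ⟨(σ : F), ?_, fun v => ?_⟩
  · rcases Int.natAbs_eq_iff.1 hσ' with e | e <;> simp [e]
  have key : ∀ l : List (ℕ × ℕ × ℤ), bilKeys l = true →
      bil l v (ev z) = evalSp (coordsOf v) (pick z l) := by
    intro l hl
    have hl' := allList_spec hl
    clear hl
    induction l with
    | nil => simp [bil, pick]
    | cons e l ih =>
      have he := hl' e List.mem_cons_self
      simp only [Bool.and_eq_true, Nat.blt, Nat.ble_eq] at he
      rw [show bil (e :: l) v (ev z) = (e.2.2 : F) * v (wi e.1) * ev z (wi e.2.1) + bil l v (ev z) from rfl,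
        ih fun y hy => hl' y (List.mem_cons_of_mem _ hy),
        show pick z (e :: l) = cond (Nat.beq e.2.1 z) ((e.1, e.2.2) :: pick z l) (pick z l) from rfl,
        ev_apply he.2 hz]
      cases Nat.beq e.2.1 z
      · simp
      · simp [coordsOf]
  rw [tform_ev hw, key _ (wt_facts hw).1, hσ]
  simp [coordsOf]

omit [Fintype F] in
theorem tform_ev_pair {a : ℕ} (h : isPtn w a = true) :
    ∃ z : ℕ, tform (ev w) (ev a) (ev z : I27 → F) ≠ 0 := by
  obtain ⟨z, hz⟩ := ptn_mem hw h
  obtain ⟨σ, hσ, hv⟩ := tform_ptn (F := F) hw hz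
  exact ⟨z, by rw [hv, ev_self, mul_one]; exact hσ⟩

omit [Fintype F] in
theorem tform_ev_zero {a : ℕ} (ha : a < 27) (h : isPtn w a = false) (x : I27 → F) :
    tform (ev w) (ev a) x = 0 :=
  tform_eq_zero hw (fun b hb => ev_ne (isPtn_lt hw hb) ha fun e => by
    rw [e, h] at hb; exact Bool.noConfusion hb) x

end tables

/-- an isometry fixing the lines of the listed unit vectors -/
def Lines (S : List ℕ) (g : GL I27 F) : Prop :=
  g ∈ E6univ F ∧ ∀ s ∈ S, ∃ c : F, c ≠ 0 ∧ app g (ev s) = c • ev s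

/-- a product of root elements fixing the listed unit vectors -/
def Fixing (S : List ℕ) (h : GL I27 F) : Prop :=
  h ∈ elemE6 F ∧ ∀ s ∈ S, app h (ev s) = ev s

omit [Fintype F] in
theorem fixing_one (S : List ℕ) : Fixing S (1 : GL I27 F) :=
  ⟨one_mem _, fun s _ => by rw [app, Units.val_one, Matrix.one_mulVec]⟩

omit [Fintype F] in
theorem Fixing.mul {S : List ℕ} {h k : GL I27 F} (hh : Fixing S h) (hk : Fixing S k) :
    Fixing S (h * k) :=
  ⟨mul_mem hh.1 hk.1, fun s hs => by rw [app_mul, hk.2 s hs, hh.2 s hs]⟩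

omit [Fintype F] in
theorem Fixing.lines {S : List ℕ} {h g : GL I27 F} (hh : Fixing S h) (hg : Lines S g) :
    Lines S (h * g) :=
  ⟨mul_mem (elem_le hh.1) hg.1, fun s hs => by
    obtain ⟨c, hc, e⟩ := hg.2 s hs
    exact ⟨c, hc, by rw [app_mul, e, app, Matrix.mulVec_smul, ← app, hh.2 s hs]⟩⟩

omit [Fintype F] in
theorem fixing_xe {S : List ℕ} (hS : ∀ s ∈ S, s < 27) (r : Fin 72) (h : fixesS r.val S = true) (t : F) :
    Fixing S (xe r t) :=
  ⟨xe_mem_elem r t, fun s hs => app_xe_ev r t (hS s hs) (allList_spec h s hs)⟩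

section step

variable {S : List ℕ} {g : GL I27 F} {w : ℕ}

omit [Fintype F] in
theorem killed_zero (hS : ∀ s ∈ S, s < 27) (hw : w < 27) (hg : Lines S g) {a : ℕ}
    (h : killed S w a = true) : app g (ev w) (wi a) = 0 := by
  obtain ⟨s, hs, h1, h2⟩ := killed_iff.1 h
  obtain ⟨c, hc, e⟩ := hg.2 s hs
  obtain ⟨z, hz⟩ := ptn_mem (hS s hs) h2
  obtain ⟨σ, hσ, hv⟩ := tform_ptn (F := F) (hS s hs) hz
  have := tform_app hg.1 (ev s) (ev w) (app g⁻¹ (ev z))
  rw [app_app_inv, e, tform_ev_zero (hS s hs) hw h1, tform_smul_first, hv] at this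
  exact (mul_eq_zero.1 ((mul_eq_zero.1 this).resolve_left hc)).resolve_left hσ

omit [Fintype F] in
theorem move_path (hS : ∀ s ∈ S, s < 27) {l : List (ℕ × ℕ)} {a : ℕ} (h : pathOK S w l a = true)
    {v : I27 → F} (hv : v (wi a) ≠ 0) : ∃ k, Fixing S k ∧ app k v (wi w) ≠ 0 := by
  induction l generalizing a v with
  | nil =>
    refine ⟨1, fixing_one S, ?_⟩
    rw [← show a = w from Nat.eq_of_beq_eq_true h, app, Units.val_one, Matrix.one_mulVec]
    exact hv
  | cons e l ih =>
    change (Nat.blt e.1 72 && Nat.blt e.2 27 && fixesS e.1 S && movesBy e.1 e.2 a &&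
      pathOK S w l e.2) = true at h
    simp only [Bool.and_eq_true, Nat.blt, Nat.ble_eq] at h
    obtain ⟨⟨⟨⟨hr, hb⟩, hf⟩, hm⟩, hl⟩ := h
    by_cases hvb : v (wi e.2) = 0
    · obtain ⟨σ, hσ, hσ'⟩ := isUnitSingle_spec hm
      obtain ⟨k, hk, hk'⟩ := ih hl (v := app (xe ⟨e.1, hr⟩ 1) v) (by
        rw [app_xe _ _ _ hb, hσ, hvb]
        simp only [evalSp_cons, evalSp_nil, add_zero, zero_add, one_mul, coordsOf, zsmul_eq_mul]
        refine mul_ne_zero ?_ hv
        rcases Int.natAbs_eq_iff.1 hσ' with q | q <;> simp [q])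
      exact ⟨k * xe ⟨e.1, hr⟩ 1, hk.mul (fixing_xe hS ⟨e.1, hr⟩ hf 1), by rw [app_mul]; exact hk'⟩
    · exact ih hl hvb

theorem make_nonzero (hS : ∀ s ∈ S, s < 27) (hw : w < 27) (hg : Lines S g) {i : Info}
    (h : infoOK S w i = true) : ∃ k, Fixing S k ∧ app (k * g) (ev w) (wi w) ≠ 0 := by
  have hne : app g (ev w) ≠ 0 := fun h0 => by
    have e := congrArg (app g⁻¹) h0
    rw [← app_mul, inv_mul_cancel, app, app, Units.val_one, Matrix.one_mulVec, Matrix.mulVec_zero] at e
    exact one_ne_zero ((ev_self (F := F) w).symm.trans (congrFun e (wi w)))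
  cases i with
  | pair a b =>
    simp only [infoOK, Bool.and_eq_true] at h
    obtain ⟨⟨ha, hb⟩, hq⟩ := h
    have hq' := allList_spec hq (w, b) (List.mem_singleton.2 rfl)
    simp only [List.any_eq_true, Bool.and_eq_true] at hq'
    obtain ⟨p, hp, h1, h2⟩ := hq'
    have ep : p = (w, b) := Prod.ext (Nat.eq_of_beq_eq_true h1) (Nat.eq_of_beq_eq_true h2)
    subst ep
    obtain ⟨σ, hσ, hv⟩ := tform_ptn (F := F) (hS a (memN_iff.1 ha)) hp
    obtain ⟨c, hc, ea⟩ := hg.2 a (memN_iff.1 ha)
    obtain ⟨d, hd, eb⟩ := hg.2 b (memN_iff.1 hb)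
    refine ⟨1, fixing_one S, fun h0 => ?_⟩
    rw [one_mul] at h0
    have := tform_app hg.1 (ev a) (ev w) (ev b)
    rw [ea, eb, tform_smul_first, tform_smul_third, hv, hv, h0, ev_self] at this
    simp only [mul_zero, mul_one] at this
    exact hσ this.symm
  | nbr s paths =>
    simp only [infoOK, Bool.and_eq_true] at h
    obtain ⟨hs, hc⟩ := h
    have hex : ∃ a ∈ cands s, app g (ev w) (wi a) ≠ 0 := by
      cases s with
      | none =>
        by_contra hall
        push Not at hall
        refine hne (funext fun x => ?_)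
        rw [← wi_wc x]
        exact hall _ (List.mem_range.2 (wc_lt x))
      | some s =>
        simp only [Bool.and_eq_true] at hs
        have hs27 := hS s (memN_iff.1 hs.1)
        obtain ⟨z, hz⟩ := tform_ev_pair (F := F) hs27 hs.2
        obtain ⟨c, hc', e⟩ := hg.2 s (memN_iff.1 hs.1)
        by_contra hall
        push Not at hall
        apply hz
        rw [← tform_app hg.1, e, tform_smul_first, tform_eq_zero hs27 (v := app g (ev w))
            (fun a ha => hall a (memN_iff.1 ha)), mul_zero]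
    obtain ⟨a, ha, hav⟩ := hex
    have := allList_spec hc a ha
    simp only [Bool.or_eq_true, List.any_eq_true, Bool.and_eq_true] at this
    rcases this with hk | ⟨p, -, -, hp⟩
    · exact absurd (killed_zero hS hw hg hk) hav
    · obtain ⟨k, hk, hk'⟩ := move_path hS hp hav
      exact ⟨k, hk, by rw [app_mul]; exact hk'⟩

omit [Fintype F] in
theorem clear_adj (hS : ∀ s ∈ S, s < 27) (hw : w < 27) (hg : Lines S g)
    (hadj : ∀ p ∈ adjTree.get w, killed S w p.2 = true ∨ fixesS p.1 S = true)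
    (hv : app g (ev w) (wi w) ≠ 0) (L : List (ℕ × ℕ)) (hL : ∀ p ∈ L, p ∈ adjTree.get w) :
    ∃ k, Fixing S k ∧ app (k * g) (ev w) (wi w) ≠ 0 ∧ ∀ p ∈ L, app (k * g) (ev w) (wi p.2) = 0 := by
  induction L with
  | nil => exact ⟨1, fixing_one S, by rw [one_mul]; exact hv, fun p hp => absurd hp List.not_mem_nil⟩
  | cons p L ih =>
    obtain ⟨k, hk, hkw, hkL⟩ := ih fun q hq => hL q (List.mem_cons_of_mem _ hq)
    by_cases h0 : app (k * g) (ev w) (wi p.2) = 0
    · exact ⟨k, hk, hkw, fun q hq => by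
        rcases List.mem_cons.1 hq with rfl | hq
        · exact h0
        · exact hkL q hq⟩
    have hpA := hL p List.mem_cons_self
    have hfix : fixesS p.1 S = true := (hadj p hpA).resolve_left fun hkill =>
      h0 (killed_zero hS hw (hk.lines hg) hkill)
    obtain ⟨hr, hp27, hrow, hmv, hoth⟩ := (wt_facts hw).2.2.2.2.1 p hpA
    obtain ⟨σ, hσ, hσ'⟩ := isUnitSingle_spec hmv
    have hσF : (σ : F) ≠ 0 := by rcases Int.natAbs_eq_iff.1 hσ' with q | q <;> simp [q]
    generalize hu : app (k * g) (ev w) = u at h0 hkw hkL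
    refine ⟨xe ⟨p.1, hr⟩ (-(u (wi p.2)) / ((σ : F) * u (wi w))) * k,
      (fixing_xe hS ⟨p.1, hr⟩ hfix _).mul hk, ?_, fun q hq => ?_⟩
    · rw [mul_assoc, app_mul, hu, app_xe _ _ _ hw, hrow]
      simpa using hkw
    rw [mul_assoc, app_mul, hu]
    have hq27 := ((wt_facts hw).2.2.2.2.1 q (hL q hq)).2.1
    rw [app_xe _ _ _ hq27]
    rcases hoth q (hL q hq) with e | e
    · rw [e, hσ]
      simp only [evalSp_cons, evalSp_nil, add_zero, coordsOf, zsmul_eq_mul]
      field_simp
      ring
    · rw [e, evalSp_nil, mul_zero, add_zero]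
      rcases List.mem_cons.1 hq with rfl | hq'
      · rw [hσ] at e; exact absurd e (List.cons_ne_nil _ _)
      · exact hkL q hq'

theorem chart (h3 : 3 ≤ Fintype.card F) (hw : w < 27) (hg : g ∈ E6univ F)
    (hv : app g (ev w) (wi w) ≠ 0) (h0 : ∀ p ∈ adjTree.get w, app g (ev w) (wi p.2) = 0) :
    app g (ev w) = app g (ev w) (wi w) • ev w := by
  funext x
  rw [← wi_wc x, Pi.smul_apply, smul_eq_mul]
  have hx := wc_lt x
  rcases (wt_facts hw).2.2.2.2.2 (wc x) hx with e | e | e
  · rw [e, ev_self, mul_one]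
  · by_cases exw : wc x = w
    · rw [exw, ev_self, mul_one]
    obtain ⟨r, hr⟩ := adj_mem hw e
    rw [h0 (r, wc x) hr, ev_ne hx hw exw, mul_zero]
  · by_cases exw : wc x = w
    · rw [exw, ev_self, mul_one]
    obtain ⟨z, hz⟩ := ptn_mem hw e
    obtain ⟨-, hz27, -, hct⟩ := (wt_facts hw).2.2.2.1 _ hz
    rw [ev_ne hx hw exw, mul_zero]
    generalize hu : app g (ev w) = u at hv h0 ⊢
    have hA : bil (linA z mons) u u = 0 := by
      rw [← aform_ev hz27, ← hu, show (ev z : I27 → F) = app g (app g⁻¹ (ev z)) from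
        (app_app_inv g _).symm, aform_app h3 hg, aform_ev_left hw]
    have key : ∀ l : List (ℕ × ℕ × ℤ), bil l u u = bil (dropAdj w l) u u := by
      intro l
      induction l with
      | nil => rfl
      | cons e l ih =>
        rw [show bil (e :: l) u u = (e.2.2 : F) * u (wi e.1) * u (wi e.2.1) + bil l u u from rfl, ih,
          show dropAdj w (e :: l) =
            cond (isAdj w e.1 || isAdj w e.2.1) (dropAdj w l) (e :: dropAdj w l) from rfl]
        cases hc : (isAdj w e.1 || isAdj w e.2.1)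
        · rfl
        · rw [cond_true]
          simp only [Bool.or_eq_true] at hc
          rcases hc with q | q <;> obtain ⟨r, hr⟩ := adj_mem hw q <;>
            simp [h0 (r, _) hr]
    rw [key] at hA
    generalize hl : dropAdj w (linA z mons) = l at hA hct
    rcases l with _ | ⟨e', t⟩
    · exact Bool.noConfusion hct
    change (t.isEmpty && ((Nat.beq e'.1 w && Nat.beq e'.2.1 (wc x)) ||
      (Nat.beq e'.1 (wc x) && Nat.beq e'.2.1 w)) && Nat.beq e'.2.2.natAbs 1) = true at hct
    simp only [Bool.and_eq_true, Bool.or_eq_true] at hct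
    obtain ⟨⟨ht, hor⟩, hs⟩ := hct
    rw [List.isEmpty_iff.1 ht] at hA
    have hne : ((e'.2.2 : ℤ) : F) ≠ 0 := by
      rcases Int.natAbs_eq_iff.1 (Nat.eq_of_beq_eq_true hs) with q | q <;> simp [q]
    simp only [bil, List.map_cons, List.map_nil, List.sum_cons, List.sum_nil, add_zero] at hA
    rcases hor with ⟨q1, q2⟩ | ⟨q1, q2⟩ <;>
      rw [Nat.eq_of_beq_eq_true q1, Nat.eq_of_beq_eq_true q2] at hA
    · exact (mul_eq_zero.1 hA).resolve_left (mul_ne_zero hne hv)
    · exact (mul_eq_zero.1 ((mul_eq_zero.1 hA).resolve_right hv)).resolve_left hne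

theorem step (h3 : 3 ≤ Fintype.card F) (hS : ∀ s ∈ S, s < 27) (hg : Lines S g) {i : Info}
    (h : stepOK S w i = true) : ∃ k ∈ elemE6 F, Lines (w :: S) (k * g) := by
  simp only [stepOK, Bool.and_eq_true, Nat.blt, Nat.ble_eq] at h
  obtain ⟨⟨hw, hi⟩, ha⟩ := h
  have hadj : ∀ p ∈ adjTree.get w, killed S w p.2 = true ∨ fixesS p.1 S = true := fun p hp => by
    simpa [Bool.or_eq_true] using allList_spec ha p hp
  obtain ⟨k₁, hk₁, hv₁⟩ := make_nonzero hS hw hg hi
  obtain ⟨k₂, hk₂, hv₂, h0⟩ := clear_adj hS hw (hk₁.lines hg) hadj hv₁ _ fun p hp => hp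
  have hl := hk₂.lines (hk₁.lines hg)
  refine ⟨k₂ * k₁, mul_mem hk₂.1 hk₁.1, ?_⟩
  rw [mul_assoc]
  exact ⟨hl.1, fun s hs => by
    rcases List.mem_cons.1 hs with rfl | hs
    · exact ⟨_, hv₂, chart h3 hw hl.1 hv₂ h0⟩
    · exact hl.2 s hs⟩

end step

theorem all_lines (h3 : 3 ≤ Fintype.card F) {g : GL I27 F} (hg : g ∈ E6univ F) :
    ∃ k ∈ elemE6 F, ∀ a < 27, ∃ c : F, c ≠ 0 ∧ app (k * g) (ev a) = c • ev a := by
  have key : ∀ (l : List (ℕ × Info)) (S : List ℕ) (g : GL I27 F), (∀ s ∈ S, s < 27) →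
      chkSteps l S = true → Lines S g →
      ∃ k ∈ elemE6 F, ∀ a < 27, ∃ c : F, c ≠ 0 ∧ app (k * g) (ev a) = c • ev a := by
    intro l
    induction l with
    | nil =>
      intro S g _ h hl
      exact ⟨1, one_mem _, fun a ha => by
        rw [one_mul]; exact hl.2 a (memN_iff.1 (allLt_spec (n := 27) (f := fun a => memN a S) h a ha))⟩
    | cons e l ih =>
      intro S g hS h hl
      change (stepOK S e.1 e.2 && chkSteps l (e.1 :: S)) = true at h
      rw [Bool.and_eq_true] at h
      obtain ⟨k, hk, hk'⟩ := step h3 hS hl h.1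
      have hw : e.1 < 27 := by
        have := h.1
        simp only [stepOK, Bool.and_eq_true, Nat.blt, Nat.ble_eq] at this
        exact this.1.1
      obtain ⟨k', hk2, hk2'⟩ := ih (e.1 :: S) (k * g)
        (fun s hs => by
          rcases List.mem_cons.1 hs with rfl | hs
          · exact hw
          · exact hS s hs) h.2 hk'
      exact ⟨k' * k, mul_mem hk2 hk, fun a ha => by rw [mul_assoc]; exact hk2' a ha⟩
  exact key frameInfo [] g (by simp) chkSteps_frame ⟨hg, by simp⟩

/-! ### The diagonal isometries -/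

omit [Fintype F] in
theorem app_he {i : ℕ} (hi : i < 6) (t : Fˣ) {a : ℕ} (ha : a < 27) :
    app (he i t) (ev a) = ((t ^ hwt i a : Fˣ) : F) • ev a := by
  funext x
  rw [app, coe_he hi, Matrix.mulVec_diagonal, Pi.smul_apply, smul_eq_mul, ← wi_wc x, wc_wi (wc_lt x)]
  by_cases h : wc x = a
  · rw [h]
  · rw [ev_ne (wc_lt x) ha h, mul_zero, mul_zero]

/-- a torus element with given values at the six weights -/
noncomputable def torus6 (c : Fin 6 → Fˣ) : GL I27 F :=
  ((List.finRange 6).map fun i : Fin 6 =>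
    he i.val (∏ l : Fin 6, c l ^ (sixInv.getD i.val []).getD l.val 0)).prod

omit [Fintype F] in
theorem torus6_mem (c : Fin 6 → Fˣ) : torus6 c ∈ elemE6 F :=
  list_prod_mem fun x hx => by
    obtain ⟨i, -, rfl⟩ := List.mem_map.1 hx
    exact he_mem _ _

omit [Fintype F] in
theorem app_torus6 (c : Fin 6 → Fˣ) {a : ℕ} (ha : a < 27) :
    app (torus6 c) (ev a) =
      ((∏ i : Fin 6, (∏ l : Fin 6, c l ^ (sixInv.getD i.val []).getD l.val 0) ^ hwt i.val a : Fˣ) : F) •
        ev a := by
  have key : ∀ (L : List (Fin 6)) (t : Fin 6 → Fˣ),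
      app ((L.map fun i => he i.val (t i)).prod) (ev a) =
        (((L.map fun i => t i ^ hwt i.val a).prod : Fˣ) : F) • ev a := by
    intro L t
    induction L with
    | nil => simp [app]
    | cons i L ih =>
      rw [List.map_cons, List.prod_cons, app_mul, ih, app, Matrix.mulVec_smul, ← app, app_he i.isLt _ ha,
        smul_smul, List.map_cons, List.prod_cons, Units.val_mul, mul_comm]
  rw [torus6, key, Fin.prod_univ_def]

omit [Fintype F] in
theorem torus6_six (c : Fin 6 → Fˣ) (k : Fin 6) :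
    (∏ i : Fin 6, (∏ l : Fin 6, c l ^ (sixInv.getD i.val []).getD l.val 0) ^ hwt i.val (six.getD k.val 0)) =
      c k := by
  have h := chkSix_ok
  simp only [chkSix, Bool.and_eq_true] at h
  obtain ⟨⟨⟨-, hM⟩, -⟩, -⟩ := h
  have hkl : ∀ l : Fin 6, ∑ i : Fin 6, (sixInv.getD i.val []).getD l.val 0 * hwt i.val (six.getD k.val 0) =
      if k = l then 1 else 0 := by
    intro l
    have := intBeq_spec (allLt_spec (allLt_spec hM k.val k.isLt) l.val l.isLt)
    simp only [List.range_succ, List.range_zero, List.nil_append, List.cons_append, List.foldl_cons,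
      List.foldl_nil, Int.add_def, Int.mul_def, zero_add] at this
    simp only [Fin.sum_univ_succ, Fin.sum_univ_zero, add_zero, Fin.val_zero, Fin.val_succ]
    by_cases hk : k = l
    · subst hk
      rw [if_pos rfl]
      rw [Nat.beq_refl, cond_true] at this
      linear_combination this
    · rw [if_neg hk]
      rw [Bool.eq_false_iff.2 fun hb => hk (Fin.ext (Nat.eq_of_beq_eq_true hb)), cond_false] at this
      linear_combination this
  simp only [← Finset.prod_zpow, ← zpow_mul]
  rw [Finset.prod_comm]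
  have : ∀ l : Fin 6, ∏ i : Fin 6, c l ^ ((sixInv.getD i.val []).getD l.val 0 * hwt i.val (six.getD k.val 0)) =
      c l ^ (if k = l then (1 : ℤ) else 0) := by
    intro l
    rw [← hkl l]
    simp only [Fin.prod_univ_succ, Fin.prod_univ_zero, Fin.sum_univ_succ, Fin.sum_univ_zero, mul_one,
      add_zero, _root_.zpow_add, mul_assoc]
  rw [Finset.prod_congr rfl fun l _ => this l, Finset.prod_eq_single k]
  · rw [if_pos rfl, zpow_one]
  · intro l _ hl
    rw [if_neg (Ne.symm hl), zpow_zero]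
  · simp

omit [Fintype F] in
theorem diag_one {g : GL I27 F} (hg : g ∈ E6univ F)
    (hd : ∀ a < 27, ∃ c : F, c ≠ 0 ∧ app g (ev a) = c • ev a)
    (h6 : ∀ s ∈ six, app g (ev s) = ev s) : g = 1 := by
  have key : ∀ (l : List (ℕ × Info)) (S : List ℕ), (∀ e ∈ l, e ∈ frameInfo) → (∀ s ∈ S, s < 27) →
      chkSteps l S = true → (∀ s ∈ S, app g (ev s) = ev s) → ∀ a < 27, app g (ev a) = ev a := by
    intro l
    induction l with
    | nil =>
      intro S _ _ h hS a ha
      exact hS a (memN_iff.1 (allLt_spec (n := 27) (f := fun a => memN a S) h a ha))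
    | cons e l ih =>
      intro S hl hS h hone
      change (stepOK S e.1 e.2 && chkSteps l (e.1 :: S)) = true at h
      rw [Bool.and_eq_true] at h
      have h1 := h.1
      simp only [stepOK, Bool.and_eq_true, Nat.blt, Nat.ble_eq] at h1
      obtain ⟨⟨hw, hi⟩, -⟩ := h1
      have hnew : app g (ev e.1) = ev e.1 := by
        have h6' := chkSix_ok
        simp only [chkSix, Bool.and_eq_true] at h6'
        have hm := allList_spec h6'.1.1.1 e (hl e List.mem_cons_self)
        obtain ⟨w, i⟩ := e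
        cases i with
        | nbr s p => exact h6 _ (memN_iff.1 hm)
        | pair a b =>
          simp only [infoOK, Bool.and_eq_true] at hi
          obtain ⟨⟨ha, hb⟩, hq⟩ := hi
          have hq' := allList_spec hq (w, b) (List.mem_singleton.2 rfl)
          simp only [List.any_eq_true, Bool.and_eq_true] at hq'
          obtain ⟨q, hq1, e1, e2⟩ := hq'
          have eq' : q = (w, b) := Prod.ext (Nat.eq_of_beq_eq_true e1) (Nat.eq_of_beq_eq_true e2)
          subst eq'
          obtain ⟨σ, hσ, hv⟩ := tform_ptn (F := F) (hS a (memN_iff.1 ha)) hq1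
          obtain ⟨c, hc, ec⟩ := hd w hw
          have := tform_app hg (ev a) (ev w) (ev b)
          rw [hone a (memN_iff.1 ha), hone b (memN_iff.1 hb), hv, hv, ec] at this
          simp only [Pi.smul_apply, smul_eq_mul, ev_self, mul_one] at this
          have hc1 : c = 1 := mul_left_cancel₀ hσ (by rw [this, mul_one])
          simp only [ec, hc1, one_smul]
      exact ih (e.1 :: S) (fun x hx => hl x (List.mem_cons_of_mem _ hx))
        (fun s hs => by
          rcases List.mem_cons.1 hs with rfl | hs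
          · exact hw
          · exact hS s hs) h.2
        (fun s hs => by
          rcases List.mem_cons.1 hs with rfl | hs
          · exact hnew
          · exact hone s hs)
  have hall := key frameInfo [] (fun e he => he) (by simp) chkSteps_frame (by simp)
  refine Units.ext (Matrix.ext fun x y => ?_)
  have := congrFun (hall (wc y) (wc_lt y)) x
  rw [app, ev, wi_wc, Matrix.mulVec_single_one] at this
  simpa [Matrix.one_apply, Pi.single_apply] using this

/-- over a field with at least three elements every isometry is a product of root elements -/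
theorem univ_eq_elem (h3 : 3 ≤ Fintype.card F) : E6univ F = elemE6 F := by
  refine le_antisymm (fun g hg => ?_) elem_le
  obtain ⟨k, hk, hd⟩ := all_lines h3 hg
  have h6len : ∀ i : Fin 6, six.getD i.val 0 < 27 := by
    have h := chkSix_ok
    simp only [chkSix, Bool.and_eq_true] at h
    intro i
    have hl : i.val < six.length := by rw [Nat.eq_of_beq_eq_true h.2]; exact i.isLt
    have := allList_spec h.1.2 _ (List.getElem_mem hl)
    rw [List.getD_eq_getElem _ _ hl]
    simpa [Nat.blt] using this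
  choose c hc hce using fun i : Fin 6 => hd _ (h6len i)
  set T := torus6 fun i => Units.mk0 (c i) (hc i)
  have hT : T ∈ elemE6 F := torus6_mem _
  have hg' : T⁻¹ * (k * g) ∈ E6univ F :=
    mul_mem (inv_mem (elem_le hT)) (mul_mem (elem_le hk) hg)
  have hTinv : ∀ a < 27, ∃ d : F, d ≠ 0 ∧ app T (ev a) = d • ev a := fun a ha =>
    ⟨_, Units.ne_zero _, app_torus6 _ ha⟩
  have h1 : T⁻¹ * (k * g) = 1 := by
    refine diag_one hg' (fun a ha => ?_) fun s hs => ?_
    · obtain ⟨d, hd0, hde⟩ := hd a ha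
      obtain ⟨e, he0, hee⟩ := hTinv a ha
      have hback : app T⁻¹ (ev a) = e⁻¹ • ev a := by
        have h2 : app T (e⁻¹ • ev a) = ev a := by
          rw [app, Matrix.mulVec_smul, ← app, hee, smul_smul, inv_mul_cancel₀ he0, one_smul]
        conv_lhs => rw [← h2, ← app_mul, inv_mul_cancel]
        rw [app, Units.val_one, Matrix.one_mulVec]
      refine ⟨e⁻¹ * d, mul_ne_zero (inv_ne_zero he0) hd0, ?_⟩
      rw [app_mul, hde, app, Matrix.mulVec_smul, ← app, hback, smul_smul, mul_comm]
    · obtain ⟨i, hi, rfl⟩ := List.mem_iff_getElem.1 hs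
      have hi6 : i < 6 := by
        have h := chkSix_ok
        simp only [chkSix, Bool.and_eq_true] at h
        rwa [Nat.eq_of_beq_eq_true h.2] at hi
      rw [← List.getD_eq_getElem (d := 0) (hn := by assumption)]
      have e1 := hce ⟨i, hi6⟩
      have e2 : app T (ev (six.getD i 0)) = c ⟨i, hi6⟩ • ev (six.getD i 0) := by
        rw [app_torus6 _ (h6len ⟨i, hi6⟩), torus6_six _ ⟨i, hi6⟩]
        rfl
      rw [app_mul, e1, ← e2, ← app_mul, inv_mul_cancel, app, Units.val_one, Matrix.one_mulVec]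
  have : g = k⁻¹ * T := by
    rw [inv_mul_eq_one] at h1
    rw [h1, inv_mul_cancel_left]
  rw [this]
  exact mul_mem (inv_mem hk) hT

end CfsgLib.Lie.E6
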