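import Cfsg.Agent.Lib.Lie.E6.Lin

/-!
# The finite checks for the frame argument
-/

set_option autoImplicit false

namespace CfsgLib.Lie.E6

open Cfsg.Lie CfsgLib.Lie.Chev

/-- membership in a list of numbers -/
noncomputable def memN (a : ℕ) (l : List ℕ) : Bool :=
  List.rec false (fun e _ ih => cond (Nat.beq e a) true ih) l

theorem memN_iff {a : ℕ} {l : List ℕ} : memN a l = true ↔ a ∈ l := by
  induction l with
  | nil => simp [memN]
  | cons e l ih =>
    show cond (Nat.beq e a) true (memN a l) = true ↔ _
    by_cases h : e = a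
    · subst h; simp [Nat.beq_refl]
    · rw [Bool.eq_false_iff.2 fun hc => h (Nat.eq_of_beq_eq_true hc), cond_false, ih,
        List.mem_cons, or_iff_right (Ne.symm h)]

/-- `a` is opposite `s` in a monomial -/
noncomputable def isPtn (s a : ℕ) : Bool := memN a ((ptnTree.get s).map Prod.fst)

/-- `a` differs from `w` by a root -/
noncomputable def isAdj (w a : ℕ) : Bool := memN a ((adjTree.get w).map Prod.snd)

/-- the coordinates that must vanish on the image of the `w`-th unit vector -/
noncomputable def killed (S : List ℕ) (w a : ℕ) : Bool :=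
  List.rec false (fun s _ ih => cond (!(isPtn s w) && isPtn s a) true ih) S

theorem killed_iff {S : List ℕ} {w a : ℕ} :
    killed S w a = true ↔ ∃ s ∈ S, isPtn s w = false ∧ isPtn s a = true := by
  induction S with
  | nil => simp [killed]
  | cons s S ih =>
    show cond (!(isPtn s w) && isPtn s a) true (killed S w a) = true ↔ _
    cases h1 : isPtn s w <;> cases h2 : isPtn s a <;>
      simp [ih, h1, h2]

/-- the root fixes the unit vectors of `S` -/
noncomputable def fixesS (r : ℕ) (S : List ℕ) : Bool :=
  allList S fun s => allList (opU r) fun e => !(Nat.beq (e.1 % 27) s)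

/-- a singleton with the given key and a sign -/
noncomputable def isUnitSingle (a : ℕ) (l : List (ℕ × ℤ)) : Bool :=
  List.rec false (fun e t _ => t.isEmpty && Nat.beq e.1 a && Nat.beq e.2.natAbs 1) l

theorem isUnitSingle_spec {a : ℕ} {l : List (ℕ × ℤ)} (h : isUnitSingle a l = true) :
    ∃ σ : ℤ, l = [(a, σ)] ∧ σ.natAbs = 1 := by
  rcases l with _ | ⟨e, t⟩
  · exact Bool.noConfusion h
  · change (t.isEmpty && Nat.beq e.1 a && Nat.beq e.2.natAbs 1) = true at h
    simp only [Bool.and_eq_true] at h
    refine ⟨e.2, ?_, Nat.eq_of_beq_eq_true h.2⟩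
    rw [List.isEmpty_iff.1 h.1.1, ← Nat.eq_of_beq_eq_true h.1.2]

/-- the root moves coordinate `a` into coordinate `b` -/
noncomputable def movesBy (r b a : ℕ) : Bool := isUnitSingle a (rowOf (opU r) b)

/-- the combination multiplying a coordinate of the second vector -/
noncomputable def pick (z : ℕ) (l : List (ℕ × ℕ × ℤ)) : List (ℕ × ℤ) :=
  List.rec [] (fun e _ ih => cond (Nat.beq e.2.1 z) ((e.1, e.2.2) :: ih) ih) l

/-- drop the terms with a coordinate next to `w` -/
noncomputable def dropAdj (w : ℕ) (l : List (ℕ × ℕ × ℤ)) : List (ℕ × ℕ × ℤ) :=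
  List.rec [] (fun e _ ih => cond (isAdj w e.1 || isAdj w e.2.1) ih (e :: ih)) l

/-- the coordinates of a bilinear expression are in range -/
noncomputable def bilKeys (l : List (ℕ × ℕ × ℤ)) : Bool :=
  allList l fun e => Nat.blt e.1 27 && Nat.blt e.2.1 27

/-- the remaining term is the product of coordinates `w` and `a` with a sign -/
noncomputable def isChartTerm (w a : ℕ) (l : List (ℕ × ℕ × ℤ)) : Bool :=
  List.rec false (fun e t _ => t.isEmpty &&
    ((Nat.beq e.1 w && Nat.beq e.2.1 a) || (Nat.beq e.1 a && Nat.beq e.2.1 w)) &&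
    Nat.beq e.2.2.natAbs 1) l

/-- the tables of a weight -/
noncomputable def chkWt (w : ℕ) : Bool :=
  bilKeys (linT w mons) && bilKeys (linA w mons) &&
  allList (linT w mons) (fun e => isPtn w e.1) &&
  allList (ptnTree.get w) (fun p => Nat.blt p.1 27 && Nat.blt p.2 27 &&
    isUnitSingle p.1 (pick p.2 (linT w mons)) &&
    isChartTerm w p.1 (dropAdj w (linA p.2 mons))) &&
  allList (adjTree.get w) (fun p => Nat.blt p.1 72 && Nat.blt p.2 27 &&
    (rowOf (opU p.1) w).isEmpty && movesBy p.1 p.2 w &&
    allList (adjTree.get w) fun p2 => Nat.beq p2.2 p.2 || (rowOf (opU p.1) p2.2).isEmpty) &&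
  allLt 27 (fun a => Nat.beq a w || isAdj w a || isPtn w a)

theorem chkWt_all : allLt 27 chkWt = true := by decide +kernel

/-- a path of roots that fix `S`, from coordinate `cur` to coordinate `w` -/
noncomputable def pathOK (S : List ℕ) (w : ℕ) : List (ℕ × ℕ) → ℕ → Bool :=
  fun l => List.rec (fun cur => Nat.beq cur w)
    (fun e _ ih cur => Nat.blt e.1 72 && Nat.blt e.2 27 && fixesS e.1 S && movesBy e.1 e.2 cur &&
      ih e.2) l

/-- the candidates for a nonzero coordinate -/
noncomputable def cands (s : Option ℕ) : List ℕ :=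
  Option.rec (List.range 27) (fun s => (ptnTree.get s).map Prod.fst) s

/-- the choice of the nonzero coordinate is valid -/
noncomputable def infoOK (S : List ℕ) (w : ℕ) : Info → Bool
  | .pair a b => memN a S && memN b S &&
      allList [(w, b)] (fun q => (ptnTree.get a).any fun p => Nat.beq p.1 q.1 && Nat.beq p.2 q.2)
  | .nbr s paths => Option.rec true (fun s => memN s S && isPtn s w) s &&
      allList (cands s) (fun a => killed S w a || paths.any fun p => Nat.beq p.1 a && pathOK S w p.2 a)

/-- one step is valid -/
noncomputable def stepOK (S : List ℕ) (w : ℕ) (i : Info) : Bool :=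
  Nat.blt w 27 && infoOK S w i &&
    allList (adjTree.get w) (fun p => killed S w p.2 || fixesS p.1 S)

/-- all steps are valid -/
noncomputable def chkSteps (l : List (ℕ × Info)) : List ℕ → Bool :=
  List.rec (fun S => allLt 27 fun a => memN a S)
    (fun e _ ih S => stepOK S e.1 e.2 && ih (e.1 :: S)) l

theorem chkSteps_frame : chkSteps frameInfo [] = true := by decide +kernel

/-- the weights of the steps with paths are among the six -/
noncomputable def chkSix : Bool :=
  allList frameInfo (fun e => match e.2 with
    | .pair _ _ => true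
    | .nbr _ _ => memN e.1 six) &&
  allLt 6 (fun k => allLt 6 fun l => intBeq
    ((List.range 6).foldl (fun acc i =>
      Int.add acc (Int.mul ((sixInv.getD i []).getD l 0) (hwt i (six.getD k 0)))) 0)
    (cond (Nat.beq k l) 1 0)) &&
  allList six (fun s => Nat.blt s 27) && Nat.beq six.length 6

theorem chkSix_ok : chkSix = true := by decide +kernel

end CfsgLib.Lie.E6
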