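import Cfsg.Agent.Lib.Lie.E6.Root

/-!
# Invariance of the polarisations, and their values on unit vectors
-/

set_option autoImplicit false

namespace CfsgLib.Lie.E6

open Cfsg.Lie CfsgLib.Lie.Chev
open scoped MatrixGroups

variable {F : Type*} [Field F]

/-- a unit vector -/
def ev (n : ℕ) : I27 → F := Pi.single (wi n) 1

theorem ev_self (n : ℕ) : (ev n : I27 → F) (wi n) = 1 := Pi.single_eq_same _ _

theorem ev_ne {a n : ℕ} (ha : a < 27) (hn : n < 27) (h : a ≠ n) : (ev n : I27 → F) (wi a) = 0 :=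
  Pi.single_eq_of_ne (fun hc => h ((wi_inj ha hn).1 hc)) _

theorem ev_apply {a n : ℕ} (ha : a < 27) (hn : n < 27) :
    (ev n : I27 → F) (wi a) = if Nat.beq a n then 1 else 0 := by
  by_cases h : a = n
  · subst h; rw [ev_self, if_pos (Nat.beq_refl a)]
  · rw [ev_ne ha hn h, if_neg fun hc => h (Nat.eq_of_beq_eq_true hc)]

/-- the image of a vector under a matrix of the group -/
abbrev app (g : GL I27 F) (v : I27 → F) : I27 → F := Matrix.mulVec (g : Matrix I27 I27 F) v

theorem app_mul (g h : GL I27 F) (v : I27 → F) : app (g * h) v = app g (app h v) := by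
  rw [app, app, app, Matrix.mulVec_mulVec, Units.val_mul]

theorem app_app_inv (g : GL I27 F) (v : I27 → F) : app g (app g⁻¹ v) = v := by
  rw [← app_mul, mul_inv_cancel, app, Units.val_one, Matrix.one_mulVec]

theorem cform_app {g : GL I27 F} (hg : g ∈ E6univ F) (v : I27 → F) : cform (app g v) = cform v := by
  rw [← cubicT_eq, ← cubicT_eq]
  exact hg v

theorem tform_app {g : GL I27 F} (hg : g ∈ E6univ F) (x y z : I27 → F) :
    tform (app g x) (app g y) (app g z) = tform x y z := by
  rw [← cform_polar, ← cform_polar]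
  simp only [← Matrix.mulVec_add, app]
  simp only [show ∀ v, cform (Matrix.mulVec (g : Matrix I27 I27 F) v) = cform v from fun v =>
    cform_app hg v]

/-- there are two different nonzero scalars -/
theorem exists_two [Fintype F] (h : 3 ≤ Fintype.card F) : ∃ s t : F, s ≠ 0 ∧ t ≠ 0 ∧ s ≠ t := by
  classical
  have h2 : 1 < (Finset.univ.erase (0 : F)).card := by
    rw [Finset.card_erase_of_mem (Finset.mem_univ _), Finset.card_univ]
    omega
  obtain ⟨s, hs, t, ht, hst⟩ := Finset.one_lt_card.1 h2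
  exact ⟨s, t, (Finset.mem_erase.1 hs).1, (Finset.mem_erase.1 ht).1, hst⟩

theorem aform_app [Fintype F] (h : 3 ≤ Fintype.card F) {g : GL I27 F} (hg : g ∈ E6univ F)
    (v u : I27 → F) : aform (app g v) (app g u) = aform v u := by
  obtain ⟨s, t, hs, ht, hst⟩ := exists_two (F := F) h
  have key : ∀ r : F, r * (aform (app g v) (app g u) - aform v u) +
      r ^ 2 * (aform (app g u) (app g v) - aform u v) = 0 := by
    intro r
    have e := cform_app hg (v + r • u)
    rw [app, Matrix.mulVec_add, Matrix.mulVec_smul, cform_line, cform_line] at e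
    have e1 := cform_app hg v
    have e2 := cform_app hg u
    simp only [app] at e1 e2 ⊢
    linear_combination e - e1 - r ^ 3 * e2
  have k1 := key s
  have k2 := key t
  have hB : (aform (app g u) (app g v) - aform u v) * (s * t * (s - t)) = 0 := by
    linear_combination t * k1 - s * k2
  have hB0 : aform (app g u) (app g v) - aform u v = 0 := by
    rcases mul_eq_zero.1 hB with h' | h'
    · exact h'
    · exact absurd h' (mul_ne_zero (mul_ne_zero hs ht) (sub_ne_zero.2 hst))
  rw [hB0, mul_zero, add_zero] at k1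
  exact sub_eq_zero.1 ((mul_eq_zero.1 k1).resolve_left hs)

/-- a sparse bilinear expression in two vectors -/
def bil (l : List (ℕ × ℕ × ℤ)) (v x : I27 → F) : F :=
  (l.map fun e => (e.2.2 : F) * v (wi e.1) * x (wi e.2.1)).sum

theorem bil_append (l l' : List (ℕ × ℕ × ℤ)) (v x : I27 → F) :
    bil (l ++ l') v x = bil l v x + bil l' v x := by simp [bil]

/-- the terms of the trilinear form with first argument a unit vector -/
noncomputable def linT (s : ℕ) (ms : List (ℤ × ℕ × ℕ × ℕ)) : List (ℕ × ℕ × ℤ) :=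
  List.rec [] (fun m _ ih =>
    cond (Nat.beq m.2.1 s) [(m.2.2.1, m.2.2.2, m.1), (m.2.2.2, m.2.2.1, m.1)] [] ++
    (cond (Nat.beq m.2.2.1 s) [(m.2.1, m.2.2.2, m.1), (m.2.2.2, m.2.1, m.1)] [] ++
    (cond (Nat.beq m.2.2.2 s) [(m.2.1, m.2.2.1, m.1), (m.2.2.1, m.2.1, m.1)] [] ++ ih))) ms

/-- the terms of the quadratic covector at a unit vector -/
noncomputable def linA (s : ℕ) (ms : List (ℤ × ℕ × ℕ × ℕ)) : List (ℕ × ℕ × ℤ) :=
  List.rec [] (fun m _ ih =>
    cond (Nat.beq m.2.1 s) [(m.2.2.1, m.2.2.2, m.1)] [] ++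
    (cond (Nat.beq m.2.2.1 s) [(m.2.1, m.2.2.2, m.1)] [] ++
    (cond (Nat.beq m.2.2.2 s) [(m.2.1, m.2.2.1, m.1)] [] ++ ih))) ms

theorem tform_ev {s : ℕ} (hs : s < 27) (v x : I27 → F) :
    tform (ev s) v x = bil (linT s mons) v x := by
  unfold tform
  generalize hms : mons = ms
  have hlt : ∀ m ∈ ms, m.2.1 < 27 ∧ m.2.2.1 < 27 ∧ m.2.2.2 < 27 := fun m hm => mons_lt' (hms ▸ hm)
  clear hms
  induction ms with
  | nil => simp [monSum_nil, linT, bil]
  | cons m ms ih =>
    obtain ⟨ha, hb, hc⟩ := hlt m List.mem_cons_self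
    rw [monSum_cons, ih fun y hy => hlt y (List.mem_cons_of_mem _ hy)]
    show _ = bil (_ ++ (_ ++ (_ ++ linT s ms))) v x
    rw [bil_append, bil_append, bil_append]
    simp only [prod3, ev_apply ha hs, ev_apply hb hs, ev_apply hc hs]
    cases Nat.beq m.2.1 s <;> cases Nat.beq m.2.2.1 s <;> cases Nat.beq m.2.2.2 s <;>
      simp [bil] <;> ring

theorem aform_ev {s : ℕ} (hs : s < 27) (v : I27 → F) :
    aform v (ev s) = bil (linA s mons) v v := by
  unfold aform
  generalize hms : mons = ms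
  have hlt : ∀ m ∈ ms, m.2.1 < 27 ∧ m.2.2.1 < 27 ∧ m.2.2.2 < 27 := fun m hm => mons_lt' (hms ▸ hm)
  clear hms
  induction ms with
  | nil => simp [monSum_nil, linA, bil]
  | cons m ms ih =>
    obtain ⟨ha, hb, hc⟩ := hlt m List.mem_cons_self
    rw [monSum_cons, ih fun y hy => hlt y (List.mem_cons_of_mem _ hy)]
    show _ = bil (_ ++ (_ ++ (_ ++ linA s ms))) v v
    rw [bil_append, bil_append, bil_append]
    simp only [prod3, ev_apply ha hs, ev_apply hb hs, ev_apply hc hs]
    cases Nat.beq m.2.1 s <;> cases Nat.beq m.2.2.1 s <;> cases Nat.beq m.2.2.2 s <;>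
      simp [bil] <;> ring

/-- the three coordinates of every monomial are different -/
theorem mons_distinct : allList mons (fun m => !(Nat.beq m.2.1 m.2.2.1) && !(Nat.beq m.2.1 m.2.2.2) &&
    !(Nat.beq m.2.2.1 m.2.2.2)) = true := by decide +kernel

theorem aform_ev_left {w : ℕ} (hw : w < 27) (u : I27 → F) : aform (ev w) u = 0 := by
  unfold aform
  rw [monSum]
  refine List.sum_eq_zero fun z hz => ?_
  obtain ⟨m, hm, rfl⟩ := List.mem_map.1 hz
  obtain ⟨ha, hb, hc⟩ := mons_lt' hm
  have hd := allList_spec mons_distinct m hm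
  simp only [Bool.and_eq_true, Bool.not_eq_true'] at hd
  obtain ⟨⟨h1, h2⟩, h3⟩ := hd
  simp only [prod3, ev_apply ha hw, ev_apply hb hw, ev_apply hc hw]
  have q1 : ¬ (m.2.1 = w ∧ m.2.2.1 = w) := fun h => by
    rw [h.1, h.2, Nat.beq_refl] at h1; exact Bool.noConfusion h1
  have q2 : ¬ (m.2.1 = w ∧ m.2.2.2 = w) := fun h => by
    rw [h.1, h.2, Nat.beq_refl] at h2; exact Bool.noConfusion h2
  have q3 : ¬ (m.2.2.1 = w ∧ m.2.2.2 = w) := fun h => by
    rw [h.1, h.2, Nat.beq_refl] at h3; exact Bool.noConfusion h3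
  have d : ∀ a, (Nat.beq a w = true) ↔ a = w := fun a =>
    ⟨Nat.eq_of_beq_eq_true, fun h => h ▸ Nat.beq_refl _⟩
  simp only [d]
  by_cases e1 : m.2.1 = w <;> by_cases e2 : m.2.2.1 = w <;> by_cases e3 : m.2.2.2 = w <;>
    simp [e1, e2, e3] <;> tauto

theorem app_xe (r : Fin 72) (t : F) (v : I27 → F) {x : ℕ} (hx : x < 27) :
    app (xe r t) v (wi x) = v (wi x) + t * evalSp (coordsOf v) (rowOf (opU r.val) x) := by
  rw [app, coe_xe, Matrix.add_mulVec, Matrix.one_mulVec, Matrix.smul_mulVec, Pi.add_apply,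
    Pi.smul_apply, eM, toM_mulVec v (op_facts r.isLt).1 hx, smul_eq_mul]

theorem app_xe_ev (r : Fin 72) (t : F) {s : ℕ} (hs : s < 27)
    (h : allList (opU r.val) (fun e => !(Nat.beq (e.1 % 27) s)) = true) :
    app (xe r t) (ev s) = ev s := by
  funext x
  rw [← wi_wc x, app_xe r t _ (wc_lt x)]
  suffices evalSp (coordsOf (ev s : I27 → F)) (rowOf (opU r.val) (wc x)) = 0 by
    rw [this, mul_zero, add_zero]
  have h' := allList_spec h
  generalize opU r.val = l at h' ⊢
  induction l with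
  | nil => simp [rowOf]
  | cons e l ih =>
    have ih' := ih fun y hy => h' y (List.mem_cons_of_mem _ hy)
    show evalSp _ (cond (Nat.beq (e.1 / 27) (wc x)) ((e.1 % 27, e.2) :: rowOf l (wc x)) (rowOf l (wc x))) = 0
    cases Nat.beq (e.1 / 27) (wc x)
    · exact ih'
    · rw [cond_true, evalSp_cons, ih', add_zero]
      have hn := h' e List.mem_cons_self
      simp only [Bool.not_eq_true'] at hn
      simp only [coordsOf]
      rw [ev_apply (Nat.mod_lt _ (by norm_num)) hs, hn]
      simp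

end CfsgLib.Lie.E6
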