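import Cfsg.Agent.Lib.Lie.E6.Adjoint
import Cfsg.Agent.Lib.Lie.E6.Frame
import Cfsg.Agent.S1054

/-!
# The group of the cubic form modulo its centre is the Chevalley group of type E6
-/

set_option autoImplicit false

namespace CfsgLib.Lie.E6

open Cfsg.Lie

theorem center_chevE6 (F : Type*) [Field F] : Subgroup.center ↥(chevE6.group F) = ⊥ := by
  obtain ⟨hs, hne⟩ := Cfsg.Agent.S1054.result (F := F) chevE6 (by simp)
  haveI := hs
  refine (Subgroup.Normal.eq_bot_or_eq_top inferInstance).resolve_right fun h => hne ?_
  exact ⟨⟨fun a b => (Subgroup.mem_center_iff.1 (h ▸ Subgroup.mem_top a) b).symm⟩⟩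

theorem e6_equiv {F : Type*} [Field F] [Fintype F] (hF : 3 ≤ Fintype.card F) :
    Nonempty (E6 F ≃* ↥(chevE6.group F)) := by
  let e := MulEquiv.subgroupCongr (univ_eq_elem hF)
  let f := (adHom F).comp e.toMonoidHom
  have hsurj : Function.Surjective f := adHom_surjective.comp e.surjective
  have hker : f.ker = Subgroup.center ↥(E6univ F) := by
    refine le_antisymm (fun x hx => ?_) fun x hx => ?_
    · have hc := Subgroup.mem_center_iff.1 (adHom_ker_le (F := F) (show e x ∈ (adHom F).ker from hx))
      exact Subgroup.mem_center_iff.2 fun y => e.injective (by rw [map_mul, map_mul, hc])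
    · have : f x ∈ Subgroup.center ↥(chevE6.group F) := by
        refine Subgroup.mem_center_iff.2 fun y => ?_
        obtain ⟨z, rfl⟩ := hsurj y
        rw [← map_mul, ← map_mul, Subgroup.mem_center_iff.1 hx z]
      rw [center_chevE6, Subgroup.mem_bot] at this
      exact this
  exact ⟨(QuotientGroup.quotientMulEquivOfEq hker.symm).trans
    (QuotientGroup.quotientKerEquivOfSurjective f hsurj)⟩

end CfsgLib.Lie.E6
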