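import Cfsg.Agent.Lib.Lie.E6.Form
import Cfsg.Prelude.Def_ChevE6
import Cfsg.Prelude.Def_ChevStructure

/-!
# The root elements and the torus on the 27 coordinates
-/

set_option autoImplicit false

namespace CfsgLib.Lie.E6

open Cfsg.Lie CfsgLib.Lie.Chev
open scoped MatrixGroups

/-- the operator of a root -/
noncomputable def opU (r : ℕ) : List (ℕ × ℤ) := unitsOf (opsTree.get r)

/-- a coordinate as a combination -/
def idF (n : ℕ) : List (ℕ × ℤ) := [(n % 27, 1)]

theorem coordKeys_idF (n : ℕ) : coordKeys (idF n) := by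
  intro e he
  rw [idF, List.mem_singleton] at he
  subst he
  exact Nat.mod_lt _ (by norm_num)

/-- the operator is a nilpotent derivation of the form, with all keys in range -/
noncomputable def chkOp (r : ℕ) : Bool :=
  keysOK (opU r) && chkZero (spMul (opU r) (opU r)) &&
    chkZero (substSum (rowOf (opU r)) idF idF mons ++ substSum idF (rowOf (opU r)) idF mons ++
      substSum idF idF (rowOf (opU r)) mons) &&
    chkZero (substSum idF (rowOf (opU r)) (rowOf (opU r)) mons ++
      substSum (rowOf (opU r)) idF (rowOf (opU r)) mons ++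
      substSum (rowOf (opU r)) (rowOf (opU r)) idF mons) &&
    chkZero (substSum (rowOf (opU r)) (rowOf (opU r)) (rowOf (opU r)) mons)

theorem chkOp_all : allLt 72 chkOp = true := by decide +kernel

theorem mons_lt : allList mons (fun m =>
    Nat.blt m.2.1 27 && Nat.blt m.2.2.1 27 && Nat.blt m.2.2.2 27) = true := by decide +kernel

theorem mons_lt' {m : ℤ × ℕ × ℕ × ℕ} (hm : m ∈ mons) : m.2.1 < 27 ∧ m.2.2.1 < 27 ∧ m.2.2.2 < 27 := by
  have := allList_spec mons_lt m hm
  simp only [Nat.blt, Bool.and_eq_true, Nat.ble_eq] at this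
  omega

variable {R : Type*} [CommRing R]

/-- the operator of a root as a matrix -/
noncomputable def eM (R : Type*) [CommRing R] (r : ℕ) : Matrix I27 I27 R := toM R (opU r)

section

variable {r : ℕ} (hr : r < 72)

include hr

theorem op_facts : keysOK (opU r) = true ∧ chkZero (spMul (opU r) (opU r)) = true ∧
    chkZero (substSum (rowOf (opU r)) idF idF mons ++ substSum idF (rowOf (opU r)) idF mons ++
      substSum idF idF (rowOf (opU r)) mons) = true ∧
    chkZero (substSum idF (rowOf (opU r)) (rowOf (opU r)) mons ++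
      substSum (rowOf (opU r)) idF (rowOf (opU r)) mons ++
      substSum (rowOf (opU r)) (rowOf (opU r)) idF mons) = true ∧
    chkZero (substSum (rowOf (opU r)) (rowOf (opU r)) (rowOf (opU r)) mons) = true := by
  have h := allLt_spec chkOp_all r hr
  simp only [chkOp, Bool.and_eq_true] at h
  obtain ⟨⟨⟨⟨h1, h2⟩, h3⟩, h4⟩, h5⟩ := h
  exact ⟨h1, h2, h3, h4, h5⟩

theorem eM_sq : eM R r * eM R r = 0 := by
  obtain ⟨h1, h2, -⟩ := op_facts hr
  rw [eM, ← toM_spMul h1 h1]
  exact evalSp_eq_zero _ h2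

theorem cform_eM (v : I27 → R) (t : R) :
    cform (v + t • Matrix.mulVec (eM R r) v) = cform v := by
  obtain ⟨h1, -, h3, h4, h5⟩ := op_facts hr
  have hi : ∀ a, a < 27 → evalSp (coordsOf v) (idF a) = v (wi a) := fun a ha => by
    simp [idF, evalSp, coordsOf, Nat.mod_eq_of_lt ha]
  have hu : ∀ a, a < 27 → evalSp (coordsOf v) (rowOf (opU r) a) = Matrix.mulVec (eM R r) v (wi a) :=
    fun a ha => (toM_mulVec v h1 ha).symm
  have ki := coordKeys_idF
  have ku := coordKeys_rowOf (opU r)
  have e3 := evalSp_eq_zero (mon3 v) h3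
  have e4 := evalSp_eq_zero (mon3 v) h4
  have e5 := evalSp_eq_zero (mon3 v) h5
  rw [evalSp_append, evalSp_append, evalSp_substSum v ku ki ki, evalSp_substSum v ki ku ki,
    evalSp_substSum v ki ki ku] at e3
  rw [evalSp_append, evalSp_append, evalSp_substSum v ki ku ku, evalSp_substSum v ku ki ku,
    evalSp_substSum v ku ku ki] at e4
  rw [evalSp_substSum v ku ku ku] at e5
  have a1 : aform v (Matrix.mulVec (eM R r) v) = 0 := by
    rw [← e3, aform]
    generalize hms : mons = ms
    have hlt : ∀ m ∈ ms, m.2.1 < 27 ∧ m.2.2.1 < 27 ∧ m.2.2.2 < 27 := fun m hm => mons_lt' (hms ▸ hm)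
    clear hms
    induction ms with
    | nil => simp [monSum_nil]
    | cons m ms ih =>
      obtain ⟨ha, hb, hc⟩ := hlt m List.mem_cons_self
      rw [monSum_cons, monSum_cons, monSum_cons, monSum_cons, ih fun x hx => hlt x (List.mem_cons_of_mem _ hx)]
      simp only [hi _ ha, hi _ hb, hi _ hc, hu _ ha, hu _ hb, hu _ hc, prod3]
      ring
  have a2 : aform (Matrix.mulVec (eM R r) v) v = 0 := by
    rw [← e4, aform]
    generalize hms : mons = ms
    have hlt : ∀ m ∈ ms, m.2.1 < 27 ∧ m.2.2.1 < 27 ∧ m.2.2.2 < 27 := fun m hm => mons_lt' (hms ▸ hm)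
    clear hms
    induction ms with
    | nil => simp [monSum_nil]
    | cons m ms ih =>
      obtain ⟨ha, hb, hc⟩ := hlt m List.mem_cons_self
      rw [monSum_cons, monSum_cons, monSum_cons, monSum_cons, ih fun x hx => hlt x (List.mem_cons_of_mem _ hx)]
      simp only [hi _ ha, hi _ hb, hi _ hc, hu _ ha, hu _ hb, hu _ hc, prod3]
      ring
  have a3 : cform (Matrix.mulVec (eM R r) v) = 0 := by
    rw [← e5, cform]
    exact monSum_congr fun m hm => by
      obtain ⟨ha, hb, hc⟩ := mons_lt' hm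
      simp only [hu _ ha, hu _ hb, hu _ hc, prod3]
  rw [cform_line, a1, a2, a3]
  ring

end

variable {F : Type*} [Field F]

/-- the root element -/
noncomputable def xe (r : Fin 72) (t : F) : GL I27 F :=
  ⟨1 + t • eM F r.val, 1 - t • eM F r.val,
    by rw [mul_sub, mul_one, add_mul, one_mul, smul_mul_smul_comm, eM_sq r.isLt, smul_zero, add_zero,
      add_sub_cancel_right],
    by rw [mul_add, mul_one, sub_mul, one_mul, smul_mul_smul_comm, eM_sq r.isLt, smul_zero, sub_zero,
      sub_add_cancel]⟩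

theorem coe_xe (r : Fin 72) (t : F) : (xe r t : Matrix I27 I27 F) = 1 + t • eM F r.val := rfl

theorem xe_mem (r : Fin 72) (t : F) : xe r t ∈ E6univ F := fun v => by
  show cubicT (Matrix.mulVec (xe r t : Matrix I27 I27 F) v) = cubicT v
  rw [coe_xe, Matrix.add_mulVec, Matrix.one_mulVec, Matrix.smul_mulVec, cubicT_eq, cubicT_eq,
    cform_eM r.isLt]

/-- the group generated by the root elements -/
noncomputable def elemE6 (F : Type*) [Field F] : Subgroup (GL I27 F) :=
  Subgroup.closure {g | ∃ r t, g = xe r t}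

theorem xe_mem_elem (r : Fin 72) (t : F) : xe r t ∈ elemE6 F := Subgroup.subset_closure ⟨r, t, rfl⟩

theorem elem_le : elemE6 F ≤ E6univ F :=
  (Subgroup.closure_le _).2 (by rintro _ ⟨r, t, rfl⟩; exact xe_mem r t)

/-! ### The torus -/

/-- the root number of a fundamental root -/
noncomputable def simpN (i : ℕ) : ℕ := chevE6.simple i

/-- the value of a weight on a fundamental coroot -/
noncomputable def hwt (i w : ℕ) : ℤ := (hwTree.get i).get w

/-- the checks for a fundamental pair of opposite roots -/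
noncomputable def chkPair (i : ℕ) : Bool :=
  let e := opU (simpN i)
  let f := opU (chevE6.neg (simpN i))
  Nat.blt (simpN i) 72 && Nat.blt (chevE6.neg (simpN i)) 72 &&
    keysOK (spMul e f) && keysOK (spMul f e) &&
    chkZero (spMul (spMul e f) e ++ scale (-1) e) && chkZero (spMul (spMul f e) f ++ scale (-1) f) &&
    allLt 27 fun a => allLt 27 fun b =>
      intBeq (coefR (spMul e f) (27 * a + b)) (cond (Nat.beq a b && intBeq (hwt i a) 1) 1 0) &&
        intBeq (coefR (spMul f e) (27 * a + b)) (cond (Nat.beq a b && intBeq (hwt i a) (-1)) 1 0) &&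
        (intBeq (hwt i a) 1 || intBeq (hwt i a) 0 || intBeq (hwt i a) (-1))

theorem chkPair_all : allLt 6 chkPair = true := by decide +kernel

theorem pair_prod {A : Type*} [Ring A] [Algebra F A] (E E' : A) (hE : E * E = 0) (hE' : E' * E' = 0)
    (h1 : E * E' * E = E) (h2 : E' * E * E' = E') (a b : F) (hab : a * b = 1) :
    ((1 + a • E) * (1 - b • E') * (1 + a • E)) * ((1 - E) * (1 + E') * (1 - E)) =
      1 - E * E' - E' * E + a • (E * E') + b • (E' * E) := by
  have n1 : ∀ c d : F, c * d = 1 →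
      (1 + c • E) * (1 - d • E') * (1 + c • E) = 1 - E * E' - E' * E + c • E - d • E' := by
    intro c d hcd
    have hdc : d * c = 1 := by rw [mul_comm, hcd]
    have e1 : (1 + c • E) * (1 - d • E') = 1 + c • E - d • E' - E * E' := by
      rw [mul_sub, mul_one, add_mul, one_mul, smul_mul_smul_comm, hcd, one_smul]
      abel
    rw [e1, mul_add, mul_one]
    simp only [add_mul, sub_mul, one_mul, smul_mul_smul_comm, hE, smul_zero, add_zero, hdc, one_smul]
    rw [mul_smul_comm, h1]
    abel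
  have e2 : (1 - E) * (1 + E') * (1 - E) = 1 - E * E' - E' * E - E + E' := by
    have := n1 (-1) (-1) (by ring)
    simpa [neg_smul, one_smul, sub_eq_add_neg] using this
  rw [n1 a b hab, e2]
  have p1 : E * E' * (E * E') = E * E' := by rw [← mul_assoc, h1]
  have p2 : E' * E * (E' * E) = E' * E := by rw [← mul_assoc, h2]
  have p3 : E * E' * (E' * E) = 0 := by rw [mul_assoc, ← mul_assoc E', hE', zero_mul, mul_zero]
  have p4 : E' * E * (E * E') = 0 := by rw [mul_assoc, ← mul_assoc E, hE, zero_mul, mul_zero]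
  have p5 : E * (E * E') = 0 := by rw [← mul_assoc, hE, zero_mul]
  have p6 : E * (E' * E) = E := by rw [← mul_assoc, h1]
  have p7 : E' * (E * E') = E' := by rw [← mul_assoc, h2]
  have p8 : E' * (E' * E) = 0 := by rw [← mul_assoc, hE', zero_mul]
  have p9 : E' * E * E = 0 := by rw [mul_assoc, hE, mul_zero]
  have p10 : E * E' * E' = 0 := by rw [mul_assoc, hE', mul_zero]
  simp only [mul_add, add_mul, mul_sub, sub_mul, smul_mul_assoc, mul_one, one_mul, hE, hE', h1, h2, p1,
    p2, p3, p4, p5, p6, p7, p8, p9, p10, smul_zero, add_zero, sub_zero, zero_add, zero_sub, smul_neg]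
  abel

/-- the root element of a root given by a number -/
noncomputable def xeN (r : ℕ) (t : F) : GL I27 F := if h : r < 72 then xe ⟨r, h⟩ t else 1

theorem xeN_mem (r : ℕ) (t : F) : xeN r t ∈ elemE6 F := by
  unfold xeN
  split
  · exact xe_mem_elem _ _
  · exact one_mem _

/-- a torus element -/
noncomputable def he (i : ℕ) (t : Fˣ) : GL I27 F :=
  (xeN (simpN i) (t : F) * xeN (chevE6.neg (simpN i)) (-(t⁻¹ : Fˣ) : F) * xeN (simpN i) (t : F)) *
    (xeN (simpN i) (-1) * xeN (chevE6.neg (simpN i)) 1 * xeN (simpN i) (-1))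

theorem he_mem (i : ℕ) (t : Fˣ) : he i t ∈ elemE6 F :=
  mul_mem (mul_mem (mul_mem (xeN_mem _ _) (xeN_mem _ _)) (xeN_mem _ _))
    (mul_mem (mul_mem (xeN_mem _ _) (xeN_mem _ _)) (xeN_mem _ _))

theorem coe_he {i : ℕ} (hi : i < 6) (t : Fˣ) :
    (he i t : Matrix I27 I27 F) = Matrix.diagonal fun x => ((t ^ hwt i (wc x) : Fˣ) : F) := by
  have h := allLt_spec chkPair_all i hi
  simp only [chkPair, Bool.and_eq_true, Bool.or_eq_true] at h
  obtain ⟨⟨⟨⟨⟨⟨hr', hs'⟩, hk1⟩, hk2⟩, he1⟩, he2⟩, hd⟩ := h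
  have hr : simpN i < 72 := by simpa [Nat.blt] using hr'
  have hs : chevE6.neg (simpN i) < 72 := by simpa [Nat.blt] using hs'
  have ke := (op_facts hr).1
  have kf := (op_facts hs).1
  have h1 : eM F (simpN i) * eM F (chevE6.neg (simpN i)) * eM F (simpN i) = eM F (simpN i) := by
    simp only [eM]
    rw [← toM_spMul ke kf, ← toM_spMul hk1 ke]
    exact toM_eq he1
  have h2 : eM F (chevE6.neg (simpN i)) * eM F (simpN i) * eM F (chevE6.neg (simpN i)) =
      eM F (chevE6.neg (simpN i)) := by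
    simp only [eM]
    rw [← toM_spMul kf ke, ← toM_spMul hk2 kf]
    exact toM_eq he2
  have hp := pair_prod (F := F) _ _ (eM_sq hr) (eM_sq hs) h1 h2 (t : F) ((t⁻¹ : Fˣ) : F) (by simp)
  rw [he, xeN, xeN, xeN, xeN, dif_pos hr, dif_pos hr, dif_pos hs, dif_pos hs]
  simp only [Units.val_mul, coe_xe, neg_smul, one_smul, ← sub_eq_add_neg]
  rw [hp]
  ext x y
  have hxy := allLt_spec (allLt_spec hd (wc x) (wc_lt x)) (wc y) (wc_lt y)
  simp only [Bool.and_eq_true, Bool.or_eq_true] at hxy
  obtain ⟨⟨c1, c2⟩, c3⟩ := hxy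
  have c1' := intBeq_spec c1
  have c2' := intBeq_spec c2
  rw [coefR_eq] at c1' c2'
  have eP : (eM F (simpN i) * eM F (chevE6.neg (simpN i))) x y =
      (coef (spMul (opU (simpN i)) (opU (chevE6.neg (simpN i)))) (27 * wc x + wc y) : F) := by
    rw [eM, eM, ← toM_spMul ke kf, ← toM_apply (keysOK_spec hk1) (wc_lt x) (wc_lt y), wi_wc, wi_wc]
  have eQ : (eM F (chevE6.neg (simpN i)) * eM F (simpN i)) x y =
      (coef (spMul (opU (chevE6.neg (simpN i))) (opU (simpN i))) (27 * wc x + wc y) : F) := by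
    rw [eM, eM, ← toM_spMul kf ke, ← toM_apply (keysOK_spec hk2) (wc_lt x) (wc_lt y), wi_wc, wi_wc]
  simp only [Matrix.add_apply, Matrix.sub_apply, Matrix.smul_apply, eP, eQ, smul_eq_mul, c1', c2']
  by_cases hxy' : x = y
  · subst hxy'
    have i1 : intBeq (1 : ℤ) 1 = true ∧ intBeq (0 : ℤ) 1 = false ∧ intBeq (-1 : ℤ) 1 = false ∧
        intBeq (1 : ℤ) (-1) = false ∧ intBeq (0 : ℤ) (-1) = false ∧ intBeq (-1 : ℤ) (-1) = true :=
      ⟨rfl, rfl, rfl, rfl, rfl, rfl⟩
    obtain ⟨i1, i2, i3, i4, i5, i6⟩ := i1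
    rcases c3 with (hw | hw) | hw <;>
      simp [intBeq_spec hw, i1, i2, i3, i4, i5, i6, Nat.beq_refl]
  · have hb : Nat.beq (wc x) (wc y) = false :=
      Bool.eq_false_iff.2 fun hc => hxy' (by rw [← wi_wc x, Nat.eq_of_beq_eq_true hc, wi_wc])
    simp [hb, hxy']

end CfsgLib.Lie.E6
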