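import Cfsg.Agent.Lib.Lie.E6.Data
import Cfsg.Prelude.Def_E6

/-!
# Sparse integer combinations and their verification

A sparse combination is a list of (key, integer). Its evaluation under any family of vectors
vanishes when all coefficient sums vanish. Matrices on the 27 coordinates and cubic monomials are
both handled in this way.
-/

set_option autoImplicit false

namespace CfsgLib.Lie.E6

open Cfsg.Lie CfsgLib.Lie.Chev

/-- evaluation of a sparse combination -/
def evalSp {M : Type*} [AddCommGroup M] (φ : ℕ → M) (l : List (ℕ × ℤ)) : M :=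
  (l.map fun e => e.2 • φ e.1).sum

section

variable {M : Type*} [AddCommGroup M] (φ : ℕ → M)

@[simp] theorem evalSp_nil : evalSp φ [] = 0 := rfl

@[simp] theorem evalSp_cons (e : ℕ × ℤ) (l : List (ℕ × ℤ)) :
    evalSp φ (e :: l) = e.2 • φ e.1 + evalSp φ l := rfl

theorem evalSp_append (l l' : List (ℕ × ℤ)) : evalSp φ (l ++ l') = evalSp φ l + evalSp φ l' := by
  simp [evalSp]

theorem evalSp_scale (c : ℤ) (l : List (ℕ × ℤ)) : evalSp φ (scale c l) = c • evalSp φ l := by
  induction l with
  | nil => simp [scale]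
  | cons e l ih =>
    rw [show scale c (e :: l) = (e.1, c * e.2) :: scale c l from rfl, evalSp_cons, ih, evalSp_cons,
      smul_add, mul_smul]

theorem evalSp_eq_finsum (l : List (ℕ × ℤ)) (s : Finset ℕ) (h : ∀ e ∈ l, e.1 ∈ s) :
    evalSp φ l = ∑ k ∈ s, coef l k • φ k := by
  induction l with
  | nil => simp
  | cons e l ih =>
    rw [evalSp_cons, ih fun x hx => h x (List.mem_cons_of_mem _ hx)]
    simp only [coef_cons, add_smul, Finset.sum_add_distrib]
    congr 1
    rw [Finset.sum_eq_single e.1 (fun b _ hb => by rw [if_neg (Ne.symm hb), zero_smul])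
      (fun hn => absurd (h e List.mem_cons_self) hn), if_pos rfl]

/-- all coefficient sums vanish -/
noncomputable def chkZero (l : List (ℕ × ℤ)) : Bool :=
  allList l fun e => intBeq (coefR l e.1) 0

theorem evalSp_eq_zero {l : List (ℕ × ℤ)} (h : chkZero l = true) : evalSp φ l = 0 := by
  rw [evalSp_eq_finsum φ l (l.map Prod.fst).toFinset
    fun e he => List.mem_toFinset.2 (List.mem_map_of_mem he)]
  refine Finset.sum_eq_zero fun k hk => ?_
  obtain ⟨e, he, rfl⟩ := List.mem_map.1 (List.mem_toFinset.1 hk)
  rw [← coefR_eq, intBeq_spec (allList_spec h e he), zero_smul]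

theorem evalSp_eq {l l' : List (ℕ × ℤ)} (h : chkZero (l ++ scale (-1) l') = true) :
    evalSp φ l = evalSp φ l' := by
  have := evalSp_eq_zero φ h
  rw [evalSp_append, evalSp_scale, neg_one_zsmul] at this
  exact sub_eq_zero.1 (by rw [sub_eq_add_neg]; exact this)

end

/-! ### The coordinates -/

/-- the coordinate with a given number -/
def wi (n : ℕ) : I27 :=
  (⟨n / 9 % 3, Nat.mod_lt _ (by norm_num)⟩, ⟨n / 3 % 3, Nat.mod_lt _ (by norm_num)⟩,
    ⟨n % 3, Nat.mod_lt _ (by norm_num)⟩)

/-- the number of a coordinate -/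
def wc (x : I27) : ℕ := 9 * x.1.val + 3 * x.2.1.val + x.2.2.val

theorem wc_lt (x : I27) : wc x < 27 := by
  obtain ⟨a, b, c⟩ := x
  have := a.isLt; have := b.isLt; have := c.isLt
  simp only [wc]
  omega

theorem wi_wc : ∀ x : I27, wi (wc x) = x := by decide +kernel

theorem wc_wi {n : ℕ} (h : n < 27) : wc (wi n) = n := by
  simp only [wc, wi]
  omega

theorem wi_inj {a b : ℕ} (ha : a < 27) (hb : b < 27) : wi a = wi b ↔ a = b :=
  ⟨fun h => by rw [← wc_wi ha, h, wc_wi hb], fun h => h ▸ rfl⟩

theorem wi_range : ∀ x : I27, x ∈ (List.range 27).map wi := fun x =>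
  List.mem_map.2 ⟨wc x, List.mem_range.2 (wc_lt x), wi_wc x⟩

/-! ### Sparse matrices -/

section

variable (R : Type*) [CommRing R]

/-- the matrix unit with a given number `27 a + b` -/
def munit (k : ℕ) : Matrix I27 I27 R := Matrix.single (wi (k / 27)) (wi (k % 27)) 1

/-- the matrix of a sparse combination of matrix units -/
def toM (l : List (ℕ × ℤ)) : Matrix I27 I27 R := evalSp (munit R) l

variable {R}

@[simp] theorem toM_nil : toM R [] = 0 := rfl

theorem toM_cons (e : ℕ × ℤ) (l : List (ℕ × ℤ)) :
    toM R (e :: l) = e.2 • munit R e.1 + toM R l := rfl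

theorem toM_append (l l' : List (ℕ × ℤ)) : toM R (l ++ l') = toM R l + toM R l' := evalSp_append _ _ _

theorem toM_scale (c : ℤ) (l : List (ℕ × ℤ)) : toM R (scale c l) = c • toM R l := evalSp_scale _ _ _

theorem toM_eq {l l' : List (ℕ × ℤ)} (h : chkZero (l ++ scale (-1) l') = true) :
    toM R l = toM R l' := evalSp_eq _ h

theorem toM_apply {l : List (ℕ × ℤ)} (hl : ∀ e ∈ l, e.1 < 729) {a b : ℕ} (ha : a < 27)
    (hb : b < 27) : toM R l (wi a) (wi b) = (coef l (27 * a + b) : R) := by
  induction l with
  | nil => simp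
  | cons e l ih =>
    have he := hl e List.mem_cons_self
    rw [toM_cons, Matrix.add_apply, ih fun x hx => hl x (List.mem_cons_of_mem _ hx), coef_cons,
      Int.cast_add, Matrix.smul_apply, munit, Matrix.single_apply]
    congr 1
    by_cases h : e.1 = 27 * a + b
    · rw [if_pos ⟨by rw [wi_inj (by omega) ha]; omega, by rw [wi_inj (by omega) hb]; omega⟩, if_pos h,
        zsmul_one]
    · rw [if_neg h, if_neg fun hc => h ?_, smul_zero, Int.cast_zero]
      have h1 := (wi_inj (by omega) ha).1 hc.1
      have h2 := (wi_inj (by omega) hb).1 hc.2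
      omega

/-- the product of a matrix unit with a sparse matrix -/
noncomputable def mulUnit (k : ℕ) (c : ℤ) (l : List (ℕ × ℤ)) : List (ℕ × ℤ) :=
  List.rec [] (fun e _ ih => cond (Nat.beq (k % 27) (e.1 / 27))
    ((27 * (k / 27) + e.1 % 27, c * e.2) :: ih) ih) l

/-- the product of two sparse matrices -/
noncomputable def spMul (l l' : List (ℕ × ℤ)) : List (ℕ × ℤ) :=
  List.rec [] (fun e _ ih => mulUnit e.1 e.2 l' ++ ih) l

/-- all keys are numbers of matrix units -/
noncomputable def keysOK (l : List (ℕ × ℤ)) : Bool := allList l fun e => Nat.blt e.1 729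

theorem keysOK_spec {l : List (ℕ × ℤ)} (h : keysOK l = true) : ∀ e ∈ l, e.1 < 729 := fun e he => by
  have := allList_spec h e he
  simpa [Nat.blt] using this

theorem toM_mulUnit {k : ℕ} (hk : k < 729) (c : ℤ) {l : List (ℕ × ℤ)} (hl : ∀ e ∈ l, e.1 < 729) :
    toM R (mulUnit k c l) = (c • munit R k) * toM R l := by
  induction l with
  | nil => simp [mulUnit]
  | cons e l ih =>
    have he := hl e List.mem_cons_self
    have ih' := ih fun x hx => hl x (List.mem_cons_of_mem _ hx)
    rw [toM_cons, mul_add, ← ih', smul_mul_smul_comm, munit, munit]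
    show toM R (cond (Nat.beq (k % 27) (e.1 / 27))
      ((27 * (k / 27) + e.1 % 27, c * e.2) :: mulUnit k c l) (mulUnit k c l)) = _
    by_cases h : k % 27 = e.1 / 27
    · rw [show Nat.beq (k % 27) (e.1 / 27) = true from by rw [h]; exact Nat.beq_refl _, cond_true,
        toM_cons, h, Matrix.single_mul_single_same, mul_one, munit]
      simp only
      rw [show (27 * (k / 27) + e.1 % 27) / 27 = k / 27 by omega,
        show (27 * (k / 27) + e.1 % 27) % 27 = e.1 % 27 by omega]
    · rw [Bool.eq_false_iff.2 fun hc => h (Nat.eq_of_beq_eq_true hc), cond_false,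
        Matrix.single_mul_single_of_ne (h := fun hc => h ((wi_inj (by omega) (by omega)).1 hc)),
        smul_zero, zero_add]

theorem toM_spMul {l l' : List (ℕ × ℤ)} (hl : keysOK l = true) (hl' : keysOK l' = true) :
    toM R (spMul l l') = toM R l * toM R l' := by
  have h := keysOK_spec hl
  clear hl
  induction l with
  | nil => simp [spMul]
  | cons e l ih =>
    rw [show spMul (e :: l) l' = mulUnit e.1 e.2 l' ++ spMul l l' from rfl, toM_append, toM_cons,
      add_mul, toM_mulUnit (h e List.mem_cons_self) _ (keysOK_spec hl'),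
      ih fun x hx => h x (List.mem_cons_of_mem _ hx)]

end

/-- the number of a matrix unit from row, column and coefficient -/
noncomputable def unitsOf (o : List (ℕ × ℕ × ℤ)) : List (ℕ × ℤ) :=
  List.rec [] (fun e _ ih => (27 * e.1 + e.2.1, e.2.2) :: ih) o

end CfsgLib.Lie.E6
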